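import Groth.Agent.Lib.Dyn85.Closed
import Mathlib.AlgebraicGeometry.Pullbacks
import Mathlib.AlgebraicGeometry.Morphisms.OpenImmersion

/-!
# The dynamic method: the open cell of a closed subgroup
-/

universe u

open LaurentPolynomial TensorProduct WithConv CategoryTheory CategoryTheory.Limits AlgebraicGeometry

namespace Groth.Agent.Lib.Dyn85

noncomputable section

variable {k : Type u} [Field k] {A H : Type u} [CommRing A] [HopfAlgebra k A] [CommRing H] [HopfAlgebra k H]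
variable {φ : H →ₐc[k] A} {D' : GmAct k H} {D : GmAct k A} {Jm Jp : Ideal A} {Im Ip : Ideal H}

theorem post_fstPt {R S : Type u} [CommRing R] [Algebra k R] [CommRing S] [Algebra k S] (h : R →ₐ[k] S)
    (χ : (A ⧸ Jm) ⊗[k] (A ⧸ Jp) →ₐ[k] R) : fstPt (h.comp χ) = post h (fstPt χ) := rfl

theorem post_sndPt {R S : Type u} [CommRing R] [Algebra k R] [CommRing S] [Algebra k S] (h : R →ₐ[k] S)
    (χ : (A ⧸ Jm) ⊗[k] (A ⧸ Jp) →ₐ[k] R) : sndPt (h.comp χ) = post h (sndPt χ) := rfl

/-- The cell of a closed subgroup is the intersection with the cell. -/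
theorem exists_isPullback_cell (hφ : Function.Surjective φ) (he : IsEquivariant φ D' D)
    (hm : Rep Jm (fun R _ _ => D.neg.U R)) (hp : Rep Jp (fun R _ _ => D.P R))
    (hm' : Rep Im (fun R _ _ => D'.neg.U R)) (hp' : Rep Ip (fun R _ _ => D'.P R)) :
    ∃ ψ : (H ⧸ Im) ⊗[k] (H ⧸ Ip) →ₐ[k] (A ⧸ Jm) ⊗[k] (A ⧸ Jp),
      IsPushout (CommRingCat.ofHom (φ : H →ₐ[k] A).toRingHom) (CommRingCat.ofHom (mu (k := k) Im Ip).toRingHom)
        (CommRingCat.ofHom (mu (k := k) Jm Jp).toRingHom) (CommRingCat.ofHom ψ.toRingHom) := by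
  let idC := AlgHom.id k ((A ⧸ Jm) ⊗[k] (A ⧸ Jp))
  obtain ⟨ψ, hψ1, hψ2⟩ := GmAct.exists_factor hm' hp'
    ((pull_mem_U_iff hφ he.neg).mpr (GmAct.fstPt_mem hm idC))
    ((pull_mem_P_iff hφ he).mpr (GmAct.sndPt_mem hp idC))
  have hcomm : ψ.comp (mu Im Ip) = (mu (k := k) Jm Jp).comp (φ : H →ₐ[k] A) := by
    have h := fst_mul_snd ψ
    rw [hψ1, hψ2, ← map_mul, fst_mul_snd] at h
    exact (congrArg WithConv.ofConv h).symm
  have hw : CommRingCat.ofHom (φ : H →ₐ[k] A).toRingHom ≫ CommRingCat.ofHom (mu (k := k) Jm Jp).toRingHom =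
      CommRingCat.ofHom (mu (k := k) Im Ip).toRingHom ≫ CommRingCat.ofHom ψ.toRingHom :=
    CommRingCat.hom_ext (congrArg AlgHom.toRingHom hcomm).symm
  have hepi := GmAct.epi_mu hm hp
  have key : ∀ s : PushoutCocone (CommRingCat.ofHom (φ : H →ₐ[k] A).toRingHom)
      (CommRingCat.ofHom (mu (k := k) Im Ip).toRingHom),
      ∃ d : CommRingCat.of ((A ⧸ Jm) ⊗[k] (A ⧸ Jp)) ⟶ s.pt,
        CommRingCat.ofHom (mu (k := k) Jm Jp).toRingHom ≫ d = s.inl ∧ CommRingCat.ofHom ψ.toRingHom ≫ d = s.inr := by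
    intro s
    let : Algebra k s.pt := (s.inl.hom.comp (algebraMap k A)).toAlgebra
    let a : A →ₐ[k] s.pt := { s.inl.hom with commutes' := fun c => rfl }
    have hsq : ∀ x, s.inl.hom (φ x) = s.inr.hom (mu (k := k) Im Ip x) := fun x =>
      RingHom.congr_fun (congrArg CommRingCat.Hom.hom s.condition) x
    let b : (H ⧸ Im) ⊗[k] (H ⧸ Ip) →ₐ[k] s.pt :=
      { s.inr.hom with
        commutes' := fun c => by
          change s.inr.hom (algebraMap k _ c) = s.inl.hom (algebraMap k A c)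
          rw [← (mu (k := k) Im Ip).commutes c, ← hsq]
          exact congrArg s.inl.hom ((φ : H →ₐ[k] A).commutes c) }
    have hg : pull φ (toConv a) = fstPt b * sndPt b := by
      rw [fst_mul_snd]
      exact pt_ext hsq
    obtain ⟨u, hu⟩ := exists_pull_eq hφ (fstPt b) fun f hf =>
      factor_mem he (GmAct.fstPt_mem hm' b) (GmAct.sndPt_mem hp' b) hg hf
    have hpp : pull φ (u⁻¹ * toConv a) = sndPt b := by rw [map_mul, map_inv, hu, hg, inv_mul_cancel_left]
    obtain ⟨χ, hχ1, hχ2⟩ := GmAct.exists_factor hm hp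
      ((pull_mem_U_iff hφ he.neg).mp (hu ▸ GmAct.fstPt_mem hm' b))
      ((pull_mem_P_iff hφ he).mp (hpp ▸ GmAct.sndPt_mem hp' b))
    have h1 : χ.comp (mu Jm Jp) = a := by
      have h := fst_mul_snd χ
      rw [hχ1, hχ2, mul_inv_cancel_left] at h
      exact congrArg WithConv.ofConv h.symm
    have h2 : χ.comp ψ = b := by
      refine hom_ext_factors ?_ ?_
      · rw [post_fstPt, hψ1, ← hu, ← hχ1]
        rfl
      · rw [post_sndPt, hψ2, ← hpp, ← hχ2]
        rfl
    exact ⟨CommRingCat.ofHom χ.toRingHom, CommRingCat.hom_ext (congrArg AlgHom.toRingHom h1),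
      CommRingCat.hom_ext (congrArg AlgHom.toRingHom h2)⟩
  choose d hd1 hd2 using key
  exact ⟨ψ, ⟨⟨hw⟩, ⟨PushoutCocone.IsColimit.mk _ d hd1 hd2 fun s m hm1 _ => by
    rw [← cancel_epi (CommRingCat.ofHom (mu (k := k) Jm Jp).toRingHom), hm1, hd1]⟩⟩⟩

/-- The open cell of a closed subgroup. -/
theorem isOpenImmersion_mu_of_closed (hφ : Function.Surjective φ) (he : IsEquivariant φ D' D)
    [Algebra.Smooth k H] (hm : Rep Jm (fun R _ _ => D.neg.U R)) (hp : Rep Jp (fun R _ _ => D.P R)) :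
    IsOpenImmersion (Spec.map (CommRingCat.ofHom (mu (k := k) Jm Jp).toRingHom)) := by
  obtain ⟨ψ, hψ⟩ := exists_isPullback_cell hφ he hm hp D'.neg.rep_U D'.rep_P
  have h := isPullback_SpecMap_of_isPushout _ _ _ _ hψ
  exact MorphismProperty.of_isPullback (P := @IsOpenImmersion) h.flip
    (GmAct.isOpenImmersion_mu D'.neg.rep_U D'.rep_P)

theorem smooth_GLn (n : ℕ) : Algebra.Smooth k (CoordGrp.GLn n k) where
  formallySmooth := by
    refine Algebra.FormallySmooth.of_comp_surjective fun R _ _ I hI f => ?_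
    classical
    choose M hM using fun p : Fin n × Fin n => Ideal.Quotient.mk_surjective (f (CoordGrp.GLn.X p.1 p.2))
    let N : Matrix (Fin n) (Fin n) R := fun i j => M (i, j)
    have hdet : Ideal.Quotient.mk I N.det = f CoordGrp.GLn.det := by
      rw [CoordGrp.GLn.det_eq, AlgHom.map_det, RingHom.map_det]
      congr 1
      ext i j
      exact hM (i, j)
    have hmul : Ideal.Quotient.mk I N.det * f CoordGrp.GLn.Dinv = 1 := by
      rw [hdet, ← map_mul, CoordGrp.GLn.det_mul_Dinv, map_one]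
    obtain ⟨d₀, hd₀⟩ := Ideal.Quotient.mk_surjective (f CoordGrp.GLn.Dinv)
    have he : 1 - N.det * d₀ ∈ I := by
      rw [← Ideal.Quotient.eq_zero_iff_mem, map_sub, map_one, map_mul, hd₀, hmul, sub_self]
    refine ⟨CoordGrp.GLn.pt n k N (d₀ * (1 + (1 - N.det * d₀))) ?_, ?_⟩
    · have h2 := GmAct.mul_eq_zero_of_sq hI he he
      linear_combination -h2
    · refine CoordGrp.GLn.algHom_ext (fun i j => ?_) ?_
      · rw [AlgHom.comp_apply, CoordGrp.GLn.pt_X]
        exact hM (i, j)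
      · rw [AlgHom.comp_apply, CoordGrp.GLn.pt_Dinv, Ideal.Quotient.mkₐ_eq_mk, map_mul, hd₀, map_add,
          Ideal.Quotient.eq_zero_iff_mem.mpr he, map_one, add_zero, mul_one]
  finitePresentation := by
    have : Algebra.FinitePresentation k (CoordGrp.GLb n k) :=
      inferInstanceAs (Algebra.FinitePresentation k (MvPolynomial (CoordGrp.GLPoly.Idx n) k))
    exact Algebra.FinitePresentation.quotient (Submodule.fg_span_singleton _)

/-- The open cell over a field. -/
theorem isOpenImmersion_mu_field {n : ℕ} (π : CoordGrp.GLn n k →ₐc[k] A) (hπ : Function.Surjective π)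
    (lam : A →ₐc[k] k[T;T⁻¹]) {Jm Jp : Ideal A} (hm : Rep Jm (fun R _ _ => (ofLam lam).neg.U R))
    (hp : Rep Jp (fun R _ _ => (ofLam lam).P R)) :
    IsOpenImmersion (Spec.map (CommRingCat.ofHom (mu (k := k) Jm Jp).toRingHom)) := by
  have := smooth_GLn (k := k) n
  exact isOpenImmersion_mu_of_closed hπ (isEquivariant_ofLam π lam) hm hp

end

end Groth.Agent.Lib.Dyn85
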