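import Groth.Agent.Lib.Dyn85.Act
import Mathlib.RingTheory.HopfAlgebra.Quotient
import Mathlib.RingTheory.Finiteness.Ideal
import Mathlib.RingTheory.FiniteType

/-!
# The dynamic method: limits, centralisers and the ideals cutting them out
-/

universe u

open LaurentPolynomial TensorProduct WithConv Polynomial

attribute [-simp] LaurentPolynomial.single_eq_C_mul_T

namespace Groth.Agent.Lib.Dyn85

noncomputable section

variable {k : Type u} [CommRing k] {A : Type u} [CommRing A] [HopfAlgebra k A]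
variable {R S : Type u} [CommRing R] [Algebra k R] [CommRing S] [Algebra k S]

/-- Polynomials inside Laurent polynomials. -/
def toL : R[X] →ₐ[k] R[T;T⁻¹] := (Polynomial.toLaurentAlg (R := R)).restrictScalars k

/-- The value at `0`. -/
def ev0 : R[X] →ₐ[k] R := (Polynomial.aeval (R := R) (0 : R)).restrictScalars k

@[simp] theorem ev0_apply (f : R[X]) : ev0 (k := k) f = f.coeff 0 := by
  simp [ev0, Polynomial.coeff_zero_eq_aeval_zero]

theorem toL_injective : Function.Injective (toL (k := k) (R := R)) := Polynomial.toLaurent_injective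

theorem coeff_toL_nat (f : R[X]) (m : ℕ) : (toL (k := k) f).coeff (m : ℤ) = f.coeff m := by
  change (Polynomial.toLaurent f).coeff (m : ℤ) = _
  rw [coeff_toLaurent]
  exact (Finsupp.mapDomain_apply Nat.castEmbedding.injective _ m).trans rfl

theorem coeff_toL_neg (f : R[X]) {n : ℤ} (hn : n < 0) : (toL (k := k) f).coeff n = 0 := by
  change (Polynomial.toLaurent f).coeff n = _
  rw [coeff_toLaurent, Finsupp.mapDomain_notin_range]
  rintro ⟨m, rfl⟩
  exact absurd hn (by simp)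

theorem coeff_toL_zero (f : R[X]) : (toL (k := k) f).coeff 0 = f.coeff 0 := by
  simpa using coeff_toL_nat (k := k) f 0

theorem mem_range_toL {z : R[T;T⁻¹]} : z ∈ (toL (k := k) (R := R)).range ↔ ∀ n < 0, z.coeff n = 0 := by
  constructor
  · rintro ⟨f, rfl⟩ n hn
    exact coeff_toL_neg f hn
  intro h
  rw [← AddMonoidAlgebra.sum_coeff_single z]
  refine Subalgebra.sum_mem _ fun n hn => ?_
  obtain ⟨m, rfl⟩ := Int.eq_ofNat_of_zero_le (a := n) (le_of_not_gt fun hlt => Finsupp.mem_support_iff.mp hn (h n hlt))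
  exact ⟨Polynomial.monomial m (z.coeff m), by
    change Polynomial.toLaurent _ = _
    rw [toLaurent_C_mul_T, single_eq_C_mul_T]⟩

/-- Factorisation through an injective map. -/
theorem exists_post_eq {T : Type u} [CommRing T] [Algebra k T] (f : S →ₐ[k] T) (hf : Function.Injective f)
    (g : Pt k A T) (h : ∀ a, g a ∈ f.range) : ∃ g₀ : Pt k A S, post f g₀ = g :=
  ⟨toConv ((AlgEquiv.ofInjective f hf).symm.toAlgHom.comp (g.ofConv.codRestrict f.range h)), pt_ext fun a => by
    have := (AlgEquiv.ofInjective f hf).apply_symm_apply ⟨g a, h a⟩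
    exact congrArg Subtype.val this⟩

namespace GmAct

variable (D : GmAct k A)

/-- Points whose orbit has a limit at `0`. -/
def P (R : Type u) [CommRing R] [Algebra k R] : Subgroup (Pt k A R) :=
  (post (toL (k := k) (R := R))).range.comap (D.pt R)

/-- Points whose orbit tends to `1` at `0`. -/
def U (R : Type u) [CommRing R] [Algebra k R] : Subgroup (Pt k A R) :=
  ((post (ev0 (k := k) (R := R))).ker.map (post (toL (k := k) (R := R)))).comap (D.pt R)

/-- Points fixed by the action. -/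
def Z (R : Type u) [CommRing R] [Algebra k R] : Subgroup (Pt k A R) :=
  MonoidHom.eqLocus (D.pt R) (post cst)

theorem U_le_P : D.U R ≤ D.P R := fun _ ⟨h, _, hh⟩ => ⟨h, hh⟩

theorem mem_P_iff {g : Pt k A R} : g ∈ D.P R ↔ ∀ n < 0, ∀ a, g (D.π n a) = 0 := by
  constructor
  · rintro ⟨h, hh⟩ n hn a
    rw [← coeff_pt, ← hh]
    exact coeff_toL_neg (k := k) _ hn
  · intro h
    exact exists_post_eq _ toL_injective (D.pt R g) fun a => mem_range_toL.mpr fun n hn => by
      rw [coeff_pt]; exact h n hn a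

theorem mem_P_of_gens {g : Pt k A R} {s : Set A} (hs : Algebra.adjoin k s = ⊤)
    (h : ∀ a ∈ s, ∀ n < 0, g (D.π n a) = 0) : g ∈ D.P R := by
  refine exists_post_eq _ toL_injective (D.pt R g) fun a => ?_
  have ha : a ∈ Algebra.adjoin k s := by rw [hs]; trivial
  exact (Algebra.adjoin_le (S := ((toL (k := k) (R := R)).range.comap (D.pt R g).ofConv)) fun x hx =>
    mem_range_toL.mpr fun n hn => (D.coeff_pt g n x).trans (h x hx n hn)) ha

theorem ev0_lift {g : Pt k A R} {h : Pt k A R[X]} (hh : post (toL (k := k) (R := R)) h = D.pt R g) (a : A) :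
    post (ev0 (k := k)) h a = g (D.π 0 a) := by
  rw [← coeff_pt, ← hh, post_apply, post_apply, ev0_apply, coeff_toL_zero]

theorem mem_U_iff {g : Pt k A R} :
    g ∈ D.U R ↔ g ∈ D.P R ∧ ∀ a, g (D.π 0 a) = algebraMap k R (Coalgebra.counit a) := by
  constructor
  · rintro ⟨h, hker, hh⟩
    refine ⟨⟨h, hh⟩, fun a => ?_⟩
    rw [← D.ev0_lift hh a, MonoidHom.mem_ker.mp hker, AlgHom.convOne_apply]
  · rintro ⟨⟨h, hh⟩, h0⟩
    refine ⟨h, MonoidHom.mem_ker.mpr (pt_ext fun a => ?_), hh⟩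
    rw [D.ev0_lift hh a, h0, AlgHom.convOne_apply]

theorem mem_U_of_gens {g : Pt k A R} {s : Set A} (hs : Algebra.adjoin k s = ⊤)
    (h : ∀ a ∈ s, ∀ n < 0, g (D.π n a) = 0)
    (h0 : ∀ a ∈ s, g (D.π 0 a) = algebraMap k R (Coalgebra.counit a)) : g ∈ D.U R := by
  obtain ⟨h', hh⟩ := D.mem_P_of_gens hs h
  refine ⟨h', MonoidHom.mem_ker.mpr (ofConv_injective (AlgHom.ext_of_adjoin_eq_top hs fun a ha => ?_)), hh⟩
  exact (D.ev0_lift hh a).trans ((h0 a ha).trans (AlgHom.convOne_apply a).symm)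

theorem mem_Z_iff {g : Pt k A R} : g ∈ D.Z R ↔ ∀ n ≠ 0, ∀ a, g (D.π n a) = 0 := by
  constructor
  · intro h n hn a
    have h' : D.pt R g = post cst g := h
    rw [← coeff_pt, h', post_apply, cst_apply, C_apply, if_neg hn]
  · intro h
    refine pt_ext fun a => LaurentPolynomial.ext fun n => ?_
    rw [coeff_pt, post_apply, cst_apply, C_apply]
    split_ifs with hn
    · subst hn
      conv_rhs => rw [← D.eq_sum_π (Finset.subset_insert 0 (D.orb a).coeff.support), map_sum]
      rw [Finset.sum_eq_single_of_mem 0 (Finset.mem_insert_self _ _) fun m _ hm => h m hm a]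
    · exact h n hn a

theorem π_zero_of_mem_Z {g : Pt k A R} (h : g ∈ D.Z R) (a : A) : g (D.π 0 a) = g a := by
  have h' : D.pt R g = post cst g := h
  rw [← coeff_pt, h', post_apply, cst_apply, C_apply, if_pos rfl]

theorem Z_le_P : D.Z R ≤ D.P R := fun _ h => D.mem_P_iff.mpr fun n hn => D.mem_Z_iff.mp h n hn.ne

theorem P_inf_neg : D.P R ⊓ D.neg.P R = D.Z R := by
  ext g
  simp only [Subgroup.mem_inf, mem_P_iff, mem_Z_iff, neg_π]
  refine ⟨fun ⟨h1, h2⟩ n hn a => ?_, fun h => ⟨fun n hn => h n hn.ne, fun n hn => h (-n) (by omega)⟩⟩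
  rcases lt_or_gt_of_ne hn with hn | hn
  · exact h1 n hn a
  · simpa using h2 (-n) (by omega) a

theorem U_inf_Z : D.U R ⊓ D.Z R = ⊥ := by
  refine eq_bot_iff.mpr fun g ⟨hu, hz⟩ => pt_ext fun a => ?_
  rw [← D.π_zero_of_mem_Z hz, (D.mem_U_iff.mp hu).2, AlgHom.convOne_apply]

theorem U_neg_inf_P : D.neg.U R ⊓ D.P R = ⊥ := by
  refine eq_bot_iff.mpr fun g ⟨hu, hp⟩ => ?_
  have hz : g ∈ D.Z R := by rw [← P_inf_neg]; exact ⟨hp, D.neg.U_le_P hu⟩
  refine pt_ext fun a => ?_
  have h0 := (D.neg.mem_U_iff.mp hu).2 a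
  rw [neg_π, neg_zero] at h0
  rw [← D.π_zero_of_mem_Z hz, h0, AlgHom.convOne_apply]

/-- The limit of a point of `P`. -/
theorem exists_limit {g : Pt k A R} (hg : g ∈ D.P R) :
    ∃ z ∈ D.Z R, (∀ a, z a = g (D.π 0 a)) ∧ z⁻¹ * g ∈ D.U R := by
  obtain ⟨h, hh⟩ := hg
  have hz : ∀ a, post ev0 h a = g (D.π 0 a) := fun a => D.ev0_lift hh a
  have hzZ : post ev0 h ∈ D.Z R := D.mem_Z_iff.mpr fun n hn a => by
    rw [hz, D.π_π, if_neg (Ne.symm hn), map_zero]
  refine ⟨_, hzZ, hz, post Polynomial.CAlgHom (post ev0 h)⁻¹ * h, MonoidHom.mem_ker.mpr ?_, ?_⟩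
  · have : ∀ q : Pt k A R, post ev0 (post Polynomial.CAlgHom q) = q := fun q => pt_ext fun a => by simp
    rw [map_mul, this, inv_mul_cancel]
  · have hC : ∀ q : Pt k A R, post toL (post (Polynomial.CAlgHom (R := k)) q) = post cst q := fun q =>
      pt_ext fun a => by simp [toL]
    have hzeq : D.pt R (post ev0 h) = post cst (post ev0 h) := hzZ
    rw [map_mul, hC, hh, map_mul, map_inv, map_inv, hzeq]

/-- The decomposition `P = Z ⋉ U`. -/
theorem existsUnique_zu {g : Pt k A R} (hg : g ∈ D.P R) :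
    ∃! zu : Pt k A R × Pt k A R, zu.1 ∈ D.Z R ∧ zu.2 ∈ D.U R ∧ zu.1 * zu.2 = g := by
  obtain ⟨z, hz, -, hu⟩ := D.exists_limit hg
  refine ⟨(z, z⁻¹ * g), ⟨hz, hu, mul_inv_cancel_left z g⟩, ?_⟩
  rintro ⟨z', u'⟩ ⟨hz', hu', e⟩
  have h1 : z'⁻¹ * z ∈ D.U R ⊓ D.Z R := by
    refine Subgroup.mem_inf.mpr ⟨?_, mul_mem (inv_mem hz') hz⟩
    have : z'⁻¹ * z = u' * (z⁻¹ * g)⁻¹ := by rw [← e]; simp [mul_assoc]
    rw [this]
    exact mul_mem hu' (inv_mem hu)
  rw [U_inf_Z, Subgroup.mem_bot, inv_mul_eq_one] at h1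
  subst h1
  simp only at e
  simp [← e]

end GmAct

/-- An ideal cutting out a family of subgroups of points. -/
def Rep (J : Ideal A) (H : ∀ (R : Type u) [CommRing R] [Algebra k R], Subgroup (Pt k A R)) : Prop :=
  ∀ (R : Type u) [CommRing R] [Algebra k R] (g : Pt k A R), (∀ a ∈ J, g a = 0) ↔ g ∈ H R

section Rep

variable {H : ∀ (R : Type u) [CommRing R] [Algebra k R], Subgroup (Pt k A R)} {J J' : Ideal A}

theorem Rep.le (h : Rep J H) (h' : Rep J' H) : J ≤ J' := fun a ha => by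
  have h1 : (toConv (Ideal.Quotient.mkₐ k J') : Pt k A (A ⧸ J')) ∈ H _ :=
    (h' _ _).mp fun b hb => Ideal.Quotient.eq_zero_iff_mem.mpr hb
  exact Ideal.Quotient.eq_zero_iff_mem.mp ((h _ _).mpr h1 a ha)

theorem Rep.unique (h : Rep J H) (h' : Rep J' H) : J = J' := le_antisymm (h.le h') (h'.le h)

/-- The ideal of a family of subgroups is a Hopf ideal. -/
theorem Rep.isHopfIdeal (h : Rep J H) : J.IsHopfIdeal k := by
  have hmk : (toConv (Ideal.Quotient.mkₐ k J) : Pt k A (A ⧸ J)) ∈ H _ :=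
    (h _ _).mp fun b hb => Ideal.Quotient.eq_zero_iff_mem.mpr hb
  refine { counit_eq_zero := fun x hx => ?_, map_mkQ_comul_eq_zero := fun x hx => ?_, antipode_mem := fun x hx => ?_ }
  · simpa using (h k 1).mpr (one_mem _) x hx
  · let Q := A ⧸ J
    let q₁ : Pt k A (Q ⊗[k] Q) := toConv ((Algebra.TensorProduct.includeLeft : Q →ₐ[k] Q ⊗[k] Q).comp (Ideal.Quotient.mkₐ k J))
    let q₂ : Pt k A (Q ⊗[k] Q) := toConv ((Algebra.TensorProduct.includeRight).comp (Ideal.Quotient.mkₐ k J))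
    have m₁ : q₁ ∈ H _ := (h _ _).mp fun b hb => by
      simp [q₁, show Ideal.Quotient.mkₐ k J b = 0 from Ideal.Quotient.eq_zero_iff_mem.mpr hb]
    have m₂ : q₂ ∈ H _ := (h _ _).mp fun b hb => by
      simp [q₂, show Ideal.Quotient.mkₐ k J b = 0 from Ideal.Quotient.eq_zero_iff_mem.mpr hb]
    have h0 := (h _ _).mpr (mul_mem m₁ m₂) x hx
    have e : (q₁ * q₂) x = TensorProduct.map (Ideal.Quotient.mkₐ k J).toLinearMap
        (Ideal.Quotient.mkₐ k J).toLinearMap (Coalgebra.comul x) := by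
      rw [AlgHom.convMul_apply]
      generalize Coalgebra.comul (R := k) x = z
      induction z using TensorProduct.induction_on with
      | zero => simp
      | add a b ha hb => simp [ha, hb]
      | tmul a b => simp [q₁, q₂]; rfl
    let φ : Q →ₗ[k] A ⧸ J.restrictScalars k := (Submodule.Quotient.restrictScalarsEquiv k J).symm.toLinearMap
    have hφ : φ ∘ₗ (Ideal.Quotient.mkₐ k J).toLinearMap = (J.restrictScalars k).mkQ := by
      ext b; rfl
    rw [← hφ, TensorProduct.map_comp, LinearMap.comp_apply, ← e, h0, map_zero]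
  · have := (h _ _).mpr (inv_mem hmk) x hx
    rw [inv_apply] at this
    exact Ideal.Quotient.eq_zero_iff_mem.mp this

end Rep

namespace GmAct

variable (D : GmAct k A)

/-- Generators of the ideal of `P`. -/
def genP (s : Set A) : Set A := {b | ∃ a ∈ s, ∃ n < 0, D.π n a = b}

/-- Generators of the ideal of `U`. -/
def genU (s : Set A) : Set A :=
  D.genP s ∪ (fun a => D.π 0 a - algebraMap k A (Coalgebra.counit a)) '' s

/-- The ideal of `P`. -/
def JP : Ideal A := Ideal.span (D.genP Set.univ)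

/-- The ideal of `U`. -/
def JU : Ideal A := Ideal.span (D.genU Set.univ)

theorem kills_span {g : Pt k A R} {G : Set A} : (∀ a ∈ Ideal.span G, g a = 0) ↔ ∀ a ∈ G, g a = 0 :=
  ⟨fun h a ha => h a (Ideal.subset_span ha), fun h a ha => by
    have : Ideal.span G ≤ RingHom.ker (g.ofConv : A →+* R) := Ideal.span_le.mpr h
    exact this ha⟩

theorem rep_P_of_gens {s : Set A} (hs : Algebra.adjoin k s = ⊤) :
    Rep (Ideal.span (D.genP s)) (fun R _ _ => D.P R) := fun R _ _ g => by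
  rw [kills_span]
  exact ⟨fun h => D.mem_P_of_gens hs fun a ha n hn => h _ ⟨a, ha, n, hn, rfl⟩,
    fun h _ ⟨a, _, n, hn, e⟩ => e ▸ D.mem_P_iff.mp h n hn a⟩

theorem rep_U_of_gens {s : Set A} (hs : Algebra.adjoin k s = ⊤) :
    Rep (Ideal.span (D.genU s)) (fun R _ _ => D.U R) := fun R _ _ g => by
  rw [kills_span]
  constructor
  · intro h
    refine D.mem_U_of_gens hs (fun a ha n hn => h _ (Or.inl ⟨a, ha, n, hn, rfl⟩)) fun a ha => ?_
    have := h _ (Or.inr ⟨a, ha, rfl⟩)
    rwa [map_sub, AlgHom.commutes, sub_eq_zero] at this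
  · rintro h _ (⟨a, -, n, hn, e⟩ | ⟨a, -, rfl⟩)
    · exact e ▸ D.mem_P_iff.mp (D.U_le_P h) n hn a
    · rw [map_sub, AlgHom.commutes, (D.mem_U_iff.mp h).2, sub_self]

theorem rep_P : Rep D.JP (fun R _ _ => D.P R) := D.rep_P_of_gens (Algebra.adjoin_univ k A)

theorem rep_U : Rep D.JU (fun R _ _ => D.U R) := D.rep_U_of_gens (Algebra.adjoin_univ k A)

theorem JP_fg [Algebra.FiniteType k A] : D.JP.FG := by
  obtain ⟨s, hs⟩ := (inferInstance : Algebra.FiniteType k A).out
  rw [D.rep_P.unique (D.rep_P_of_gens hs)]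
  refine Submodule.fg_span ((Set.Finite.biUnion s.finite_toSet fun a _ =>
    ((D.orb a).coeff.support.finite_toSet.image fun n => D.π n a).insert 0).subset ?_)
  rintro b ⟨a, ha, n, -, rfl⟩
  refine Set.mem_biUnion ha ?_
  by_cases hn : n ∈ (D.orb a).coeff.support
  · exact Or.inr ⟨n, hn, rfl⟩
  · exact Or.inl (by simpa [π_def] using hn)

theorem JU_fg [Algebra.FiniteType k A] : D.JU.FG := by
  obtain ⟨s, hs⟩ := (inferInstance : Algebra.FiniteType k A).out
  rw [D.rep_U.unique (D.rep_U_of_gens hs), genU, Ideal.span_union]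
  refine Submodule.FG.sup ?_ (Submodule.fg_span (s.finite_toSet.image _))
  rw [← D.rep_P.unique (D.rep_P_of_gens hs)]
  exact D.JP_fg

end GmAct

section OfLam

variable {lam : A →ₐc[k] k[T;T⁻¹]} {J : Ideal A}

theorem limExists_iff (g : A →ₐ[k] R) :
    Dyn.LimExists k A lam R g ↔ toConv g ∈ (ofLam lam).P R := by
  constructor
  · rintro ⟨h, hh⟩
    exact ⟨toConv h, ofConv_injective (hh.trans (conjOrbit_eq_pt lam g))⟩
  · rintro ⟨h, hh⟩
    exact ⟨h.ofConv, ((congrArg WithConv.ofConv hh) : _).trans (conjOrbit_eq_pt lam g).symm⟩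

theorem limIsOne_iff (g : A →ₐ[k] R) :
    Dyn.LimIsOne k A lam R g ↔ toConv g ∈ (ofLam lam).U R := by
  constructor
  · rintro ⟨h, hh, h0⟩
    exact ⟨toConv h, MonoidHom.mem_ker.mpr (ofConv_injective h0),
      ofConv_injective (hh.trans (conjOrbit_eq_pt lam g))⟩
  · rintro ⟨h, h0, hh⟩
    exact ⟨h.ofConv, ((congrArg WithConv.ofConv hh) : _).trans (conjOrbit_eq_pt lam g).symm,
      congrArg WithConv.ofConv (MonoidHom.mem_ker.mp h0)⟩

theorem const_iff (g : A →ₐ[k] R) :
    Dyn.conjOrbit k A lam R g = (IsScalarTower.toAlgHom k R R[T;T⁻¹]).comp g ↔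
      toConv g ∈ (ofLam lam).Z R := by
  rw [conjOrbit_eq_pt]
  exact ⟨fun h => ofConv_injective h, fun h => congrArg WithConv.ofConv (h : _ = _)⟩

theorem represents_limExists_iff :
    Dyn.Represents k A J (fun R _ _ g => Dyn.LimExists k A lam R g) ↔
      Rep J (fun R _ _ => (ofLam lam).P R) :=
  ⟨fun h R _ _ g => (h R g.ofConv).trans (limExists_iff g.ofConv),
    fun h R _ _ g => (h R (toConv g)).trans (limExists_iff g).symm⟩

theorem represents_limIsOne_iff :
    Dyn.Represents k A J (fun R _ _ g => Dyn.LimIsOne k A lam R g) ↔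
      Rep J (fun R _ _ => (ofLam lam).U R) :=
  ⟨fun h R _ _ g => (h R g.ofConv).trans (limIsOne_iff g.ofConv),
    fun h R _ _ g => (h R (toConv g)).trans (limIsOne_iff g).symm⟩

end OfLam

end

end Groth.Agent.Lib.Dyn85
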