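import Groth.Prelude.Def_Dyn
import Mathlib.Algebra.Group.Subgroup.Basic

/-!
# The dynamic method: gradings of an affine group by a cocharacter

An action of `G_m` on an affine group `Spec A` by automorphisms is recorded through its orbit map
`orb : A → A[T;T⁻¹]`; a one-parameter subgroup gives one by conjugation.  The coefficient maps
`π n` are the projections onto the homogeneous parts.
-/

universe u

open LaurentPolynomial TensorProduct WithConv Polynomial

attribute [-simp] LaurentPolynomial.single_eq_C_mul_T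

namespace Groth.Agent.Lib.Dyn85

noncomputable section

variable {k : Type u} [CommRing k]

/-- Points of `Spec A` with values in `R`. -/
abbrev Pt (k A R : Type u) [CommRing k] [CommRing A] [Algebra k A] [CommRing R] [Algebra k R] :=
  WithConv (A →ₐ[k] R)

variable {A : Type u} [CommRing A] [HopfAlgebra k A]
variable {R S : Type u} [CommRing R] [Algebra k R] [CommRing S] [Algebra k S]

/-- Functoriality of points in the values. -/
def post (h : R →ₐ[k] S) : Pt k A R →* Pt k A S where
  toFun g := toConv (h.comp g.ofConv)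
  map_one' := ofConv_injective (AlgHom.ext fun a => h.commutes _)
  map_mul' f g := ofConv_injective (AlgHom.comp_convMul_distrib h f g)

@[simp] theorem post_apply (h : R →ₐ[k] S) (g : Pt k A R) (a : A) : (post h g) a = h (g a) := rfl

instance ptGroup : Group (Pt k A R) where
  inv g := toConv (g.ofConv.comp (HopfAlgebra.antipodeAlgHom k A))
  inv_mul_cancel g := by
    have h := congrArg (post (A := A) g.ofConv) (AlgHom.antipode_id_cancel (R := k) (A := A))
    rw [map_mul, map_one] at h
    exact h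

theorem inv_apply (g : Pt k A R) (a : A) : g⁻¹ a = g (HopfAlgebra.antipode k a) := rfl

theorem pt_ext {g g' : Pt k A R} (h : ∀ a, g a = g' a) : g = g' := ofConv_injective (AlgHom.ext h)

theorem conv3_eq (f g h : A →ₐ[k] R) :
    Dyn.conv3 k A f g h = (toConv f * toConv g * toConv h).ofConv := by
  simp only [Dyn.conv3, AlgHom.convMul_def, ofConv_toConv]
  congr 1
  rw [← AlgHom.comp_assoc, ← Algebra.TensorProduct.map_comp, AlgHom.comp_id, AlgHom.comp_assoc]

/-- The inclusion of the constants. -/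
def cst : R →ₐ[k] R[T;T⁻¹] := IsScalarTower.toAlgHom k R R[T;T⁻¹]

@[simp] theorem cst_apply (r : R) : cst (k := k) r = LaurentPolynomial.C r := rfl

/-- Evaluation of Laurent polynomials at a unit, along an algebra map. -/
def evR (f : R →ₐ[k] S) (x : Sˣ) : R[T;T⁻¹] →ₐ[k] S :=
  AddMonoidAlgebra.liftNCAlgHom f ((Units.coeHom S).comp (zpowersHom Sˣ x)) fun _ _ => Commute.all _ _

@[simp] theorem evR_single (f : R →ₐ[k] S) (x : Sˣ) (n : ℤ) (r : R) :
    evR f x (AddMonoidAlgebra.single n r) = f r * ((x ^ n : Sˣ) : S) := by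
  simp [evR, zpowersHom_apply]

theorem laurent_hom_ext {φ ψ : R[T;T⁻¹] →ₐ[k] S}
    (h : ∀ n r, φ (AddMonoidAlgebra.single n r) = ψ (AddMonoidAlgebra.single n r)) : φ = ψ := by
  apply AlgHom.ext
  intro x
  induction x using AddMonoidAlgebra.induction_linear with
  | zero => simp
  | add a b ha hb => simp [ha, hb]
  | single n r => exact h n r

/-- The unit `T`. -/
def Tu (R : Type u) [CommRing R] : (R[T;T⁻¹])ˣ :=
  ⟨LaurentPolynomial.T 1, LaurentPolynomial.T (-1), by rw [← T_add]; simp, by rw [← T_add]; simp⟩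

theorem Tu_zpow (n : ℤ) : ((Tu R ^ n : (R[T;T⁻¹])ˣ) : R[T;T⁻¹]) = LaurentPolynomial.T n := by
  induction n using Int.induction_on with
  | zero => simp
  | succ n ih => rw [zpow_add_one, Units.val_mul, ih, T_add]; rfl
  | pred n ih => rw [zpow_sub_one, Units.val_mul, ih, T_sub]; rfl

theorem map_Tu (h : R →ₐ[k] S) :
    Units.map (AddMonoidAlgebra.mapAlgHom ℤ h : R[T;T⁻¹] →* S[T;T⁻¹]) (Tu R) = Tu S := by
  ext1
  simp [Tu, LaurentPolynomial.T]

/-- An action of the multiplicative group by group automorphisms. -/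
structure GmAct (k : Type u) [CommRing k] (A : Type u) [CommRing A] [HopfAlgebra k A] where
  /-- the orbit map -/
  orb : A →ₐ[k] A[T;T⁻¹]
  one' : ∀ a : A, evR (AlgHom.id k A) 1 (orb a) = a
  assoc' : ∀ (a : A) (n : ℤ), orb ((orb a).coeff n) = AddMonoidAlgebra.single n ((orb a).coeff n)
  mul' : ∀ (R : Type u) [CommRing R] [Algebra k R] (g h : Pt k A R),
    toConv ((AddMonoidAlgebra.mapAlgHom ℤ (g * h).ofConv).comp orb) =
      toConv ((AddMonoidAlgebra.mapAlgHom ℤ g.ofConv).comp orb) *
        toConv ((AddMonoidAlgebra.mapAlgHom ℤ h.ofConv).comp orb)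

namespace GmAct

theorem ext_orb {D D' : GmAct k A} (h : D.orb = D'.orb) : D = D' := by
  cases D; cases D'; cases h; rfl

variable (D : GmAct k A)

/-- The orbit of a point. -/
def pt (R : Type u) [CommRing R] [Algebra k R] : Pt k A R →* Pt k A R[T;T⁻¹] :=
  MonoidHom.mk' (fun g => toConv ((AddMonoidAlgebra.mapAlgHom ℤ g.ofConv).comp D.orb)) fun g h => D.mul' R g h

/-- The homogeneous components. -/
def π (n : ℤ) : A →ₗ[k] A where
  toFun a := (D.orb a).coeff n
  map_add' a b := by simp
  map_smul' c a := by simp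

theorem π_def (n : ℤ) (a : A) : D.π n a = (D.orb a).coeff n := rfl

@[simp] theorem coeff_pt (g : Pt k A R) (n : ℤ) (a : A) : (D.pt R g a).coeff n = g (D.π n a) := by
  simp [pt, π]

theorem pt_post (h : R →ₐ[k] S) (g : Pt k A R) :
    D.pt S (post h g) = post (AddMonoidAlgebra.mapAlgHom ℤ h) (D.pt R g) :=
  pt_ext fun a => LaurentPolynomial.ext fun n => by simp

/-- Homogeneous elements. -/
def IsHom (n : ℤ) (a : A) : Prop := D.orb a = AddMonoidAlgebra.single n a

theorem isHom_π (n : ℤ) (a : A) : D.IsHom n (D.π n a) := D.assoc' a n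

theorem π_of_isHom {n : ℤ} {a : A} (h : D.IsHom n a) (m : ℤ) : D.π m a = if m = n then a else 0 := by
  rw [π_def, h, AddMonoidAlgebra.coeff_single, Finsupp.single_apply]
  simp only [eq_comm]

theorem π_self {n : ℤ} {a : A} (h : D.IsHom n a) : D.π n a = a := by rw [D.π_of_isHom h, if_pos rfl]

theorem π_π (m n : ℤ) (a : A) : D.π m (D.π n a) = if m = n then D.π n a else 0 :=
  D.π_of_isHom (D.isHom_π n a) m

theorem IsHom.mul {m n : ℤ} {a b : A} (ha : D.IsHom m a) (hb : D.IsHom n b) : D.IsHom (m + n) (a * b) := by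
  rw [IsHom, map_mul, ha, hb, AddMonoidAlgebra.single_mul_single]

theorem isHom_algebraMap (c : k) : D.IsHom 0 (algebraMap k A c) := by
  rw [IsHom, AlgHom.commutes]; rfl

theorem isHom_one : D.IsHom 0 (1 : A) := by rw [IsHom, map_one]; rfl

theorem sum_π (a : A) : ((D.orb a).coeff.support.sum fun n => D.π n a) = a := by
  conv_rhs => rw [← D.one' a, ← AddMonoidAlgebra.sum_coeff_single (D.orb a), map_finsuppSum]
  simp [Finsupp.sum, evR_single, π_def]

theorem eq_sum_π {s : Finset ℤ} {a : A} (hs : (D.orb a).coeff.support ⊆ s) : ∑ n ∈ s, D.π n a = a := by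
  conv_rhs => rw [← D.sum_π a]
  exact (Finset.sum_subset hs fun n _ hn => Finsupp.notMem_support_iff.mp hn).symm

theorem induction_hom {p : A → Prop} (h0 : p 0) (hadd : ∀ a b, p a → p b → p (a + b))
    (hhom : ∀ n a, D.IsHom n a → p a) (a : A) : p a := by
  rw [← D.sum_π a]
  exact Finset.sum_induction _ p hadd h0 fun n _ => hhom n _ (D.isHom_π n a)

theorem apply_π_zero_iff (g : Pt k A R) (a : A) : (∀ n, g (D.π n a) = 0) ↔ D.pt R g a = 0 := by
  simp [LaurentPolynomial.ext_iff]

theorem counit_π (n : ℤ) (a : A) :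
    Coalgebra.counit (R := k) (D.π n a) = if n = 0 then Coalgebra.counit (R := k) a else 0 := by
  have h := congrArg (fun g : Pt k A k[T;T⁻¹] => (g a).coeff n) (map_one (D.pt k))
  simp only [coeff_pt, AlgHom.convOne_apply, Algebra.algebraMap_self, RingHom.id_apply] at h
  rw [h, show algebraMap k k[T;T⁻¹] (Coalgebra.counit a) = LaurentPolynomial.C (Coalgebra.counit a) from rfl,
    C_apply]

theorem antipode_π (n : ℤ) (a : A) :
    HopfAlgebra.antipode k (D.π n a) = D.π n (HopfAlgebra.antipode k a) := by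
  have h := congrArg (fun g : Pt k A A[T;T⁻¹] => (g a).coeff n)
    (map_inv (D.pt A) (toConv (AlgHom.id k A)))
  simp only [GmAct.coeff_pt, inv_apply, AlgHom.coe_id, id_eq] at h
  exact h

end GmAct

section OfLam

variable (lam : A →ₐc[k] k[T;T⁻¹])

/-- The value of the one-parameter subgroup at a unit. -/
def lamPt (x : Rˣ) : Pt k A R :=
  toConv ((evR (Algebra.ofId k R) x).comp (lam : A →ₐ[k] k[T;T⁻¹]))

theorem post_lamPt (h : R →ₐ[k] S) (x : Rˣ) :
    post h (lamPt lam x) = lamPt lam (Units.map (h : R →* S) x) := by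
  refine ofConv_injective ?_
  change h.comp ((evR _ x).comp _) = (evR _ _).comp _
  rw [← AlgHom.comp_assoc]
  congr 1
  refine laurent_hom_ext fun n r => ?_
  simp [evR_single, map_mul, ← map_zpow]

theorem lamPt_mul (x y : Rˣ) : lamPt lam (x * y) = lamPt lam x * lamPt lam y := by
  have key : (toConv (evR (Algebra.ofId k R) x) * toConv (evR (Algebra.ofId k R) y) : Pt k k[T;T⁻¹] R) =
      toConv (evR (Algebra.ofId k R) (x * y)) := by
    refine ofConv_injective (laurent_hom_ext fun n r => ?_)
    simp [AlgHom.convMul_apply, evR_single, mul_zpow, mul_assoc, mul_comm, mul_left_comm]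
  refine ofConv_injective ?_
  change (toConv (evR (Algebra.ofId k R) (x * y))).ofConv.comp _ = _
  rw [← key, AlgHom.convMul_comp_bialgHom_distrib]
  rfl

theorem lamPt_one : lamPt lam (1 : Rˣ) = 1 :=
  mul_eq_left.mp ((lamPt_mul lam (1 : Rˣ) 1).symm.trans (by rw [one_mul]))

/-- Conjugation by the value at a unit. -/
def conj (x : Rˣ) (g : Pt k A R) : Pt k A R := lamPt lam x * g * (lamPt lam x)⁻¹

theorem post_conj (h : R →ₐ[k] S) (x : Rˣ) (g : Pt k A R) :
    post h (conj lam x g) = conj lam (Units.map (h : R →* S) x) (post h g) := by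
  simp only [conj, map_mul, map_inv, post_lamPt]

theorem conj_conj (x y : Rˣ) (g : Pt k A R) : conj lam x (conj lam y g) = conj lam (x * y) g := by
  simp only [conj, lamPt_mul, mul_inv_rev, mul_assoc]

theorem conjOrbit_eq (g : A →ₐ[k] R) :
    Dyn.conjOrbit k A lam R g = (conj lam (Tu R) (post cst (toConv g))).ofConv := by
  rw [Dyn.conjOrbit, conv3_eq]
  have : Dyn.lamR k A lam R = (lamPt lam (Tu R)).ofConv := by
    rw [Dyn.lamR, lamPt, ofConv_toConv]
    congr 1
    refine laurent_hom_ext fun n r => ?_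
    rw [evR_single, Tu_zpow, AddMonoidAlgebra.mapAlgHom_single]
    rw [show (Algebra.ofId k R[T;T⁻¹] r : R[T;T⁻¹]) = AddMonoidAlgebra.single 0 (algebraMap k R r) from rfl,
      LaurentPolynomial.T, AddMonoidAlgebra.single_mul_single, zero_add, mul_one]
    rfl
  rw [this]
  rfl

/-- The universal orbit. -/
def orbPt : Pt k A A[T;T⁻¹] := conj lam (Tu A) (post cst (toConv (AlgHom.id k A)))

theorem map_orbPt (g : Pt k A R) :
    post (AddMonoidAlgebra.mapAlgHom ℤ g.ofConv) (orbPt lam) = conj lam (Tu R) (post cst g) := by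
  rw [orbPt, post_conj, map_Tu]
  congr 1
  exact pt_ext fun a => by simp [← single_eq_C]

/-- Conjugation by a one-parameter subgroup. -/
def ofLam : GmAct k A where
  orb := (orbPt lam).ofConv
  one' a := by
    have : post (evR (AlgHom.id k A) 1) (orbPt lam) = toConv (AlgHom.id k A) := by
      have hT : Units.map (evR (AlgHom.id k A) 1 : A[T;T⁻¹] →* A) (Tu A) = 1 := by
        ext1; simp [Tu, LaurentPolynomial.T]
      rw [orbPt, post_conj, hT, conj, lamPt_one, one_mul, inv_one, mul_one]
      exact pt_ext fun a => by simp [← single_eq_C, evR_single]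
    exact congrArg (fun g : Pt k A A => g a) this
  assoc' a n := by
    let ι₁ : A →ₐ[k] A[T;T⁻¹] := cst
    let ι₂ : A[T;T⁻¹] →ₐ[k] (A[T;T⁻¹])[T;T⁻¹] := cst
    let TS : ((A[T;T⁻¹])[T;T⁻¹])ˣ := Tu A[T;T⁻¹] * Units.map (ι₂ : A[T;T⁻¹] →* _) (Tu A)
    let Ψ : A[T;T⁻¹] →ₐ[k] (A[T;T⁻¹])[T;T⁻¹] := evR (ι₂.comp ι₁) TS
    have hΨ : ∀ m b, Ψ (AddMonoidAlgebra.single m b) =
        AddMonoidAlgebra.single m (AddMonoidAlgebra.single m b) := fun m b => by
      have e : ((TS ^ m : ((A[T;T⁻¹])[T;T⁻¹])ˣ) : (A[T;T⁻¹])[T;T⁻¹]) =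
          LaurentPolynomial.T m * ι₂ (LaurentPolynomial.T m) := by
        simp only [TS]
        rw [(Commute.all (Tu A[T;T⁻¹]) (Units.map (ι₂ : A[T;T⁻¹] →* _) (Tu A))).mul_zpow, Units.val_mul, ← map_zpow, Units.coe_map, Tu_zpow, Tu_zpow]
        rfl
      rw [evR_single, e]
      simp [ι₁, ι₂, LaurentPolynomial.T, ← single_eq_C, AddMonoidAlgebra.single_mul_single]
    have key : post (AddMonoidAlgebra.mapAlgHom ℤ (orbPt lam).ofConv) (orbPt lam) = post Ψ (orbPt lam) := by
      rw [map_orbPt]
      conv_rhs => rw [orbPt, post_conj]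
      conv_lhs => rw [orbPt, post_conj, conj_conj]
      congr 1
      · ext1
        simp only [Units.val_mul, Units.coe_map, MonoidHom.coe_coe]
        have h := hΨ 1 1
        simp only [Tu, LaurentPolynomial.T] at h ⊢
        rw [h]
        simp [ι₂, ← single_eq_C, AddMonoidAlgebra.single_mul_single]
      · exact pt_ext fun b => by simp [ι₁, ι₂, ← single_eq_C, hΨ]
    have h1 := congrArg (fun g : Pt k A (A[T;T⁻¹])[T;T⁻¹] => (g a).coeff n) key
    simp only [post_apply, AddMonoidAlgebra.coeff_mapAlgHom] at h1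
    rw [h1]
    clear h1
    generalize (orbPt lam).ofConv a = z
    induction z using AddMonoidAlgebra.induction_linear with
    | zero => simp
    | add x y hx hy => simp [hx, hy]
    | single m b =>
      rw [hΨ, AddMonoidAlgebra.coeff_single, AddMonoidAlgebra.coeff_single, Finsupp.single_apply,
        Finsupp.single_apply]
      split_ifs with h
      · rw [h]
      · simp
  mul' R _ _ g h := by
    change post (AddMonoidAlgebra.mapAlgHom ℤ (g * h).ofConv) (orbPt lam) =
      post (AddMonoidAlgebra.mapAlgHom ℤ g.ofConv) (orbPt lam) *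
        post (AddMonoidAlgebra.mapAlgHom ℤ h.ofConv) (orbPt lam)
    simp only [map_orbPt, map_mul, conj]
    simp only [mul_assoc, inv_mul_cancel_left]

theorem ofLam_pt (g : Pt k A R) : (ofLam lam).pt R g = conj lam (Tu R) (post cst g) := map_orbPt lam g

theorem conjOrbit_eq_pt (g : A →ₐ[k] R) :
    Dyn.conjOrbit k A lam R g = ((ofLam lam).pt R (toConv g)).ofConv := by
  rw [ofLam_pt, conjOrbit_eq]

end OfLam

/-- The opposite action. -/
def GmAct.neg (D : GmAct k A) : GmAct k A where
  orb := ((LaurentPolynomial.invert (R := A)).toAlgHom.restrictScalars k).comp D.orb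
  one' a := by
    conv_rhs => rw [← D.one' a]
    change evR _ 1 (LaurentPolynomial.invert (D.orb a)) = _
    generalize D.orb a = z
    induction z using AddMonoidAlgebra.induction_linear with
    | zero => simp
    | add x y hx hy => simp [hx, hy]
    | single m b => simp [LaurentPolynomial.invert, evR_single]
  assoc' a n := by
    change LaurentPolynomial.invert (D.orb ((LaurentPolynomial.invert (D.orb a)).coeff n)) = _
    rw [invert_apply, D.assoc']
    simp [LaurentPolynomial.invert]
  mul' R _ _ g h := by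
    have e : ∀ q : Pt k A R,
        toConv ((AddMonoidAlgebra.mapAlgHom ℤ q.ofConv).comp
          (((LaurentPolynomial.invert (R := A)).toAlgHom.restrictScalars k).comp D.orb)) =
        post ((LaurentPolynomial.invert (R := R)).toAlgHom.restrictScalars k) (D.pt R q) := fun q =>
      pt_ext fun a => LaurentPolynomial.ext fun m => by simp [GmAct.π]
    rw [e, e, e, map_mul, map_mul]

@[simp] theorem GmAct.neg_π (D : GmAct k A) (n : ℤ) (a : A) : D.neg.π n a = D.π (-n) a := by
  simp [GmAct.π, GmAct.neg]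

theorem ofLam_neg (lam lamNeg : A →ₐc[k] k[T;T⁻¹])
    (hneg : (lamNeg : A →ₐ[k] k[T;T⁻¹]) = Dyn.negParam k A lam) : ofLam lamNeg = (ofLam lam).neg := by
  apply GmAct.ext_orb
  let inv : A[T;T⁻¹] →ₐ[k] A[T;T⁻¹] := (LaurentPolynomial.invert (R := A)).toAlgHom.restrictScalars k
  change (orbPt lamNeg).ofConv = (post inv (orbPt lam)).ofConv
  congr 1
  rw [orbPt, orbPt, post_conj]
  have h1 : lamPt lamNeg (Tu A) = lamPt lam (Units.map (inv : A[T;T⁻¹] →* A[T;T⁻¹]) (Tu A)) := by
    rw [lamPt, lamPt, hneg, Dyn.negParam, ← AlgHom.comp_assoc]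
    congr 2
    refine laurent_hom_ext fun n r => ?_
    rw [evR_single, ← map_zpow, Units.coe_map]
    simp [evR_single, Tu_zpow, inv, LaurentPolynomial.invert, ← zpow_neg, LaurentPolynomial.T]
  have h2 : post inv (post cst (toConv (AlgHom.id k A))) = post cst (toConv (AlgHom.id k A)) :=
    pt_ext fun a => by simp [inv]
  simp only [conj, h1, h2]

end

end Groth.Agent.Lib.Dyn85
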