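import Groth.Agent.Lib.Dyn85.Smooth
import Mathlib.AlgebraicGeometry.Morphisms.FlatMono
import Mathlib.AlgebraicGeometry.Morphisms.Flat
import Mathlib.RingTheory.Smooth.Flat
import Mathlib.RingTheory.FinitePresentation

/-!
# The dynamic method: the open cell
-/

universe u

open LaurentPolynomial TensorProduct WithConv Polynomial CategoryTheory AlgebraicGeometry

attribute [-simp] LaurentPolynomial.single_eq_C_mul_T

namespace Groth.Agent.Lib.Dyn85

noncomputable section

variable {k : Type u} [CommRing k] {A : Type u} [CommRing A] [HopfAlgebra k A]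

/-- Multiplication, on coordinate rings. -/
def mu (Jm Jp : Ideal A) : A →ₐ[k] (A ⧸ Jm) ⊗[k] (A ⧸ Jp) :=
  (Algebra.TensorProduct.map (Ideal.Quotient.mkₐ k Jm) (Ideal.Quotient.mkₐ k Jp)).comp
    (Bialgebra.comulAlgHom k A)

variable {Jm Jp : Ideal A}

/-- The first factor of a point of the cell. -/
def fstPt {R : Type u} [CommRing R] [Algebra k R] (φ : (A ⧸ Jm) ⊗[k] (A ⧸ Jp) →ₐ[k] R) : Pt k A R :=
  toConv ((φ.comp Algebra.TensorProduct.includeLeft).comp (Ideal.Quotient.mkₐ k Jm))

/-- The second factor of a point of the cell. -/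
def sndPt {R : Type u} [CommRing R] [Algebra k R] (φ : (A ⧸ Jm) ⊗[k] (A ⧸ Jp) →ₐ[k] R) : Pt k A R :=
  toConv ((φ.comp Algebra.TensorProduct.includeRight).comp (Ideal.Quotient.mkₐ k Jp))

theorem fst_mul_snd {R : Type u} [CommRing R] [Algebra k R] (φ : (A ⧸ Jm) ⊗[k] (A ⧸ Jp) →ₐ[k] R) :
    fstPt φ * sndPt φ = toConv (φ.comp (mu Jm Jp)) := by
  refine pt_ext fun a => ?_
  rw [AlgHom.convMul_apply]
  simp only [mu, ofConv_toConv, AlgHom.comp_apply, Bialgebra.comulAlgHom_apply]
  generalize Coalgebra.comul (R := k) a = z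
  induction z using TensorProduct.induction_on with
  | zero => simp
  | add x y hx hy => simp [hx, hy]
  | tmul x y =>
    simp only [fstPt, sndPt, ofConv_toConv, Algebra.TensorProduct.lift_tmul, AlgHom.comp_apply,
      Algebra.TensorProduct.map_tmul, Algebra.TensorProduct.includeLeft_apply,
      Algebra.TensorProduct.includeRight_apply]
    rw [← map_mul, Algebra.TensorProduct.tmul_mul_tmul, mul_one, one_mul]

theorem hom_ext_factors {R : Type u} [CommRing R] [Algebra k R] {φ ψ : (A ⧸ Jm) ⊗[k] (A ⧸ Jp) →ₐ[k] R}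
    (h1 : fstPt φ = fstPt ψ) (h2 : sndPt φ = sndPt ψ) : φ = ψ :=
  Algebra.TensorProduct.ext (Ideal.Quotient.algHom_ext k (congrArg WithConv.ofConv h1))
    (Ideal.Quotient.algHom_ext k (congrArg WithConv.ofConv h2))

namespace GmAct

variable {D : GmAct k A} (hm : Rep Jm (fun R _ _ => D.neg.U R)) (hp : Rep Jp (fun R _ _ => D.P R))

include hm in
theorem fstPt_mem {R : Type u} [CommRing R] [Algebra k R] (φ : (A ⧸ Jm) ⊗[k] (A ⧸ Jp) →ₐ[k] R) :
    fstPt φ ∈ D.neg.U R :=
  (hm R _).mp fun a ha => by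
    simp only [fstPt, ofConv_toConv, AlgHom.comp_apply,
      show Ideal.Quotient.mkₐ k Jm a = 0 from Ideal.Quotient.eq_zero_iff_mem.mpr ha, map_zero]

include hp in
theorem sndPt_mem {R : Type u} [CommRing R] [Algebra k R] (φ : (A ⧸ Jm) ⊗[k] (A ⧸ Jp) →ₐ[k] R) :
    sndPt φ ∈ D.P R :=
  (hp R _).mp fun a ha => by
    simp only [sndPt, ofConv_toConv, AlgHom.comp_apply,
      show Ideal.Quotient.mkₐ k Jp a = 0 from Ideal.Quotient.eq_zero_iff_mem.mpr ha, map_zero]

include hm hp in
/-- A factorisation of a point gives a point of the cell. -/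
theorem exists_factor {R : Type u} [CommRing R] [Algebra k R] {u p : Pt k A R} (hu : u ∈ D.neg.U R)
    (hp' : p ∈ D.P R) : ∃ φ : (A ⧸ Jm) ⊗[k] (A ⧸ Jp) →ₐ[k] R, fstPt φ = u ∧ sndPt φ = p := by
  refine ⟨Algebra.TensorProduct.lift (Ideal.Quotient.liftₐ Jm u.ofConv ((hm R u).mpr hu))
    (Ideal.Quotient.liftₐ Jp p.ofConv ((hp R p).mpr hp')) fun _ _ => Commute.all _ _, ?_, ?_⟩
  · exact pt_ext fun a => by simp [fstPt]
  · exact pt_ext fun a => by simp [sndPt]

theorem factors_eq {R : Type u} [CommRing R] [Algebra k R] {u u' p p' : Pt k A R} (hu : u ∈ D.neg.U R)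
    (hu' : u' ∈ D.neg.U R) (hp : p ∈ D.P R) (hp' : p' ∈ D.P R) (e : u * p = u' * p') : u = u' ∧ p = p' := by
  have h : u'⁻¹ * u ∈ D.neg.U R ⊓ D.P R := by
    refine Subgroup.mem_inf.mpr ⟨mul_mem (inv_mem hu') hu, ?_⟩
    rw [show u'⁻¹ * u = p' * p⁻¹ by
      rw [eq_mul_inv_iff_mul_eq, mul_assoc, e, inv_mul_cancel_left]]
    exact mul_mem hp' (inv_mem hp)
  rw [U_neg_inf_P, Subgroup.mem_bot, inv_mul_eq_one] at h
  subst h
  exact ⟨rfl, mul_left_cancel e⟩

include hm hp in
theorem comp_mu_injective {R : Type u} [CommRing R] [Algebra k R]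
    {φ ψ : (A ⧸ Jm) ⊗[k] (A ⧸ Jp) →ₐ[k] R} (h : φ.comp (mu Jm Jp) = ψ.comp (mu Jm Jp)) : φ = ψ := by
  have e : fstPt φ * sndPt φ = fstPt ψ * sndPt ψ := by rw [fst_mul_snd, fst_mul_snd, h]
  obtain ⟨h1, h2⟩ := D.factors_eq (fstPt_mem hm φ) (fstPt_mem hm ψ) (sndPt_mem hp φ) (sndPt_mem hp ψ) e
  exact hom_ext_factors h1 h2

include hm hp in
theorem epi_mu : Epi (CommRingCat.ofHom (mu (k := k) Jm Jp).toRingHom) := by
  refine ⟨fun {R} f g h => CommRingCat.hom_ext ?_⟩
  let : Algebra k R := (f.hom.comp (algebraMap k _)).toAlgebra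
  let f' : (A ⧸ Jm) ⊗[k] (A ⧸ Jp) →ₐ[k] R := { f.hom with commutes' := fun c => rfl }
  let g' : (A ⧸ Jm) ⊗[k] (A ⧸ Jp) →ₐ[k] R :=
    { g.hom with
      commutes' := fun c => by
        have h1 := RingHom.congr_fun (congrArg CommRingCat.Hom.hom h) (algebraMap k A c)
        simp only [CommRingCat.hom_comp, CommRingCat.hom_ofHom, RingHom.comp_apply, AlgHom.toRingHom_eq_coe,
          RingHom.coe_coe, AlgHom.commutes] at h1
        exact h1.symm }
  have hfg : f' = g' := comp_mu_injective hm hp (AlgHom.ext fun a =>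
    RingHom.congr_fun (congrArg CommRingCat.Hom.hom h) a)
  exact congrArg AlgHom.toRingHom hfg

/-- The cell, as an algebra over the group through the multiplication. -/
def CellRing (k : Type u) [CommRing k] {A : Type u} [CommRing A] [HopfAlgebra k A] (Jm Jp : Ideal A) : Type u :=
  (A ⧸ Jm) ⊗[k] (A ⧸ Jp)

instance : CommRing (CellRing k Jm Jp) := inferInstanceAs (CommRing ((A ⧸ Jm) ⊗[k] (A ⧸ Jp)))

instance : Algebra k (CellRing k Jm Jp) := inferInstanceAs (Algebra k ((A ⧸ Jm) ⊗[k] (A ⧸ Jp)))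

instance : Algebra A (CellRing k Jm Jp) := (mu (k := k) Jm Jp).toRingHom.toAlgebra

instance : IsScalarTower k A (CellRing k Jm Jp) :=
  .of_algebraMap_eq fun c => ((mu (k := k) Jm Jp).commutes c).symm

include hm hp in
/-- The cell is étale over the group, in the smooth case. -/
theorem formallyEtale_cell [Algebra.FormallySmooth k A] : Algebra.FormallyEtale A (CellRing k Jm Jp) := by
  have hst : IsScalarTower k A (CellRing k Jm Jp) := inferInstance
  refine Algebra.FormallyEtale.iff_comp_bijective.mpr fun R _ _ I hI => ?_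
  let : Algebra k R := ((algebraMap A R).comp (algebraMap k A)).toAlgebra
  have : IsScalarTower k A R := .of_algebraMap_eq fun _ => rfl
  refine ⟨fun φ ψ h => ?_, fun f => ?_⟩
  · have e : φ.restrictScalars k = ψ.restrictScalars k := comp_mu_injective hm hp (AlgHom.ext fun a =>
      (φ.commutes a).trans (ψ.commutes a).symm)
    exact AlgHom.ext fun x => AlgHom.congr_fun e x
  let f₀ : (A ⧸ Jm) ⊗[k] (A ⧸ Jp) →ₐ[k] R ⧸ I := f.restrictScalars k
  let g : Pt k A R := toConv (IsScalarTower.toAlgHom k A R)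
  obtain ⟨u, hu, eu⟩ := D.neg.exists_lift_U hI (fstPt f₀) (fstPt_mem hm f₀)
  obtain ⟨p, hp', ep⟩ := D.exists_lift_P hI (sndPt f₀) (sndPt_mem hp f₀)
  have hg : post (Ideal.Quotient.mkₐ k I) g = fstPt f₀ * sndPt f₀ := by
    rw [fst_mul_snd]
    exact pt_ext fun a => (f.commutes a).symm
  have hd : post (Ideal.Quotient.mkₐ k I) (u⁻¹ * g * p⁻¹) = 1 := by
    rw [map_mul, map_mul, map_inv, map_inv, hg, eu, ep, inv_mul_cancel_left, mul_inv_cancel]
  obtain ⟨dm, hdm, dp, hdp, edm, edp, ed⟩ := D.exists_split hI _ hd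
  obtain ⟨φ, hφ1, hφ2⟩ := exists_factor hm hp (mul_mem hu hdm) (mul_mem hdp hp')
  have hμ : φ.comp (mu Jm Jp) = IsScalarTower.toAlgHom k A R := by
    have h1 : fstPt φ * sndPt φ = g := by
      rw [hφ1, hφ2, show u * dm * (dp * p) = u * (dm * dp) * p by simp only [mul_assoc], ed]
      simp [mul_assoc]
    rw [fst_mul_snd] at h1
    exact congrArg WithConv.ofConv h1
  refine ⟨{ φ with commutes' := fun a => AlgHom.congr_fun hμ a }, AlgHom.restrictScalars_injective k ?_⟩
  refine hom_ext_factors (k := k) ?_ ?_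
  · calc _ = post (Ideal.Quotient.mkₐ k I) (fstPt φ) := rfl
      _ = fstPt f₀ := by rw [hφ1, map_mul, eu, edm, mul_one]
  · calc _ = post (Ideal.Quotient.mkₐ k I) (sndPt φ) := rfl
      _ = sndPt f₀ := by rw [hφ2, map_mul, edp, ep, one_mul]

include hm hp in
theorem finitePresentation_cell [Algebra.FinitePresentation k A] : Algebra.FinitePresentation A (CellRing k Jm Jp) := by
  have : Algebra.FinitePresentation k (A ⧸ Jm) :=
    Algebra.FinitePresentation.quotient (hm.unique D.neg.rep_U ▸ D.neg.JU_fg)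
  have : Algebra.FinitePresentation k (A ⧸ Jp) :=
    Algebra.FinitePresentation.quotient (hp.unique D.rep_P ▸ D.JP_fg)
  have : Algebra.FinitePresentation k (CellRing k Jm Jp) :=
    Algebra.FinitePresentation.trans k (A ⧸ Jm) ((A ⧸ Jm) ⊗[k] (A ⧸ Jp))
  exact Algebra.FinitePresentation.of_restrict_scalars_finitePresentation k A _

include hm hp in
theorem finitePresentation_mu [Algebra.FinitePresentation k A] :
    (mu (k := k) Jm Jp).toRingHom.FinitePresentation :=
  (RingHom.finitePresentation_algebraMap (A := A) (B := CellRing k Jm Jp)).mpr (finitePresentation_cell hm hp)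

include hm hp in
theorem mono_cell : Mono (Spec.map (CommRingCat.ofHom (mu (k := k) Jm Jp).toRingHom)) := by
  have := epi_mu hm hp
  exact (inferInstance : Mono (Scheme.Spec.map (CommRingCat.ofHom (mu (k := k) Jm Jp).toRingHom).op))

include hm hp in
theorem isOpenImmersion_of_flat [Algebra.FinitePresentation k A] (hflat : (mu (k := k) Jm Jp).toRingHom.Flat) :
    IsOpenImmersion (Spec.map (CommRingCat.ofHom (mu (k := k) Jm Jp).toRingHom)) := by
  have := mono_cell hm hp
  have : Flat (Spec.map (CommRingCat.ofHom (mu (k := k) Jm Jp).toRingHom)) :=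
    (HasRingHomProperty.Spec_iff (P := @Flat)).mpr hflat
  have : LocallyOfFinitePresentation (Spec.map (CommRingCat.ofHom (mu (k := k) Jm Jp).toRingHom)) :=
    (HasRingHomProperty.Spec_iff (P := @LocallyOfFinitePresentation)).mpr (finitePresentation_mu hm hp)
  exact IsOpenImmersion.of_flat_of_mono _

include hm hp in
theorem isOpenImmersion_mu [Algebra.Smooth k A] :
    IsOpenImmersion (Spec.map (CommRingCat.ofHom (mu (k := k) Jm Jp).toRingHom)) := by
  refine isOpenImmersion_of_flat hm hp ?_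
  have := formallyEtale_cell hm hp
  have := finitePresentation_cell hm hp
  have : Algebra.Smooth A (CellRing k Jm Jp) := ⟨inferInstance, inferInstance⟩
  exact RingHom.flat_algebraMap_iff.mpr (inferInstance : Module.Flat A (CellRing k Jm Jp))

end GmAct

end

end Groth.Agent.Lib.Dyn85
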