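import Mathlib.RingTheory.FiniteType
import Mathlib.LinearAlgebra.FreeModule.StrongRankCondition

/-!
# Graded submodules stable under a triangular product
-/

universe u v

namespace Groth.Agent.Lib.Dyn85.LinStab

variable {R : Type u} [CommRing R] {M : Type v} [AddCommGroup M] [Module R M]

open Classical in
/-- If `u` raises degrees with identity leading part, `p` lowers degrees with invertible leading part `z`, and
`u ∘ p` preserves a finitely generated graded direct summand, then so does `u`. -/
theorem stable (Pi : ℤ → M →ₗ[R] M) (hPi : ∀ m n x, Pi m (Pi n x) = if m = n then Pi n x else 0)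
    (hfin : ∀ x, ∃ s : Finset ℤ, ∀ t, s ⊆ t → ∑ n ∈ t, Pi n x = x)
    (u p z zinv : M →ₗ[R] M)
    (hu : ∀ m i x, Pi i x = x → m ≤ i → Pi m (u x) = if m = i then x else 0)
    (hp : ∀ m i x, Pi i x = x → i ≤ m → Pi m (p x) = if m = i then z x else 0)
    (hz : ∀ i x, Pi i x = x → Pi i (z x) = z x) (hzinv : ∀ x, zinv (z x) = x)
    (N : Submodule R M) (hN : N.FG) (hNPi : ∀ n, ∀ x ∈ N, Pi n x ∈ N)
    (l : M →ₗ[R] M) (hl : ∀ x, l x ∈ N) (hl' : ∀ x ∈ N, l x = x)
    (hg : ∀ x ∈ N, u (p x) ∈ N) : ∀ x ∈ N, u x ∈ N := by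
  obtain ⟨S, hS⟩ := id hN
  choose sup hsup using hfin
  have hzero : ∀ x, ∀ n ∉ sup x, Pi n x = 0 := fun x n hn => by
    have h := hsup x (insert n (sup x)) (Finset.subset_insert _ _)
    rw [Finset.sum_insert hn, hsup x _ (Finset.Subset.refl _)] at h
    exact add_eq_right.mp h
  obtain ⟨b, hb⟩ : ∃ b : ℤ, ∀ n < b, ∀ x ∈ N, Pi n x = 0 := by
    obtain ⟨b, hb⟩ := (S.biUnion sup : Finset ℤ).finite_toSet.bddBelow
    refine ⟨b, fun n hn x hx => ?_⟩
    rw [← hS] at hx
    induction hx using Submodule.span_induction with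
    | mem y hy =>
      exact hzero y n fun h => not_le.mpr hn (hb (Finset.mem_biUnion.mpr ⟨y, hy, h⟩))
    | zero => simp
    | add y w _ _ hy hw => simp [hy, hw]
    | smul c y _ hy => simp [hy]
  have key : ∀ n : ℤ, b - 1 ≤ n → ∀ j ≤ n, ∀ x ∈ N, Pi j x = x → u x ∈ N := by
    intro n hn
    induction n, hn using Int.leInduction with
    | base =>
      intro j hj x hx e
      rw [show x = 0 by rw [← e]; exact hb j (by omega) x hx, map_zero]
      exact N.zero_mem
    | succ n _ ih =>
      intro j hj x hx hxj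
      rcases lt_or_eq_of_le hj with hlt | rfl
      · exact ih j (by omega) x hx hxj
      have claim : ∀ v ∈ N, Pi (n + 1) v = v →
          z v ∈ N ∧ u (z v) ∈ N := by
        intro v hv hvj
        let a := fun m => Pi m (p v)
        have ha0 : ∀ m, n + 1 < m → a m = 0 := fun m hm => by
          simp only [a, hp m (n + 1) v hvj hm.le, if_neg hm.ne']
        have hatop : a (n + 1) = z v := by simp [a, hp (n + 1) (n + 1) v hvj le_rfl]
        have hdeg : ∀ m, Pi m (a m) = a m := fun m => by simp only [a, hPi, if_true]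
        have hpv : ∀ t, sup (p v) ⊆ t → u (p v) = ∑ m ∈ t, u (a m) := fun t ht => by
          rw [← map_sum, hsup (p v) t ht]
        have haN : ∀ m, a m ∈ N := by
          by_contra hne
          push Not at hne
          obtain ⟨m₀, hm₀, hmin⟩ := ((sup (p v)).filter fun m => a m ∉ N).exists_min_image id (by
            obtain ⟨m, hm⟩ := hne
            exact ⟨m, Finset.mem_filter.mpr ⟨by_contra fun h => hm (by simp [a, hzero _ m h]), hm⟩⟩)
          rw [Finset.mem_filter] at hm₀
          have hlow : ∀ m ∈ sup (p v), m < m₀ → a m ∈ N := fun m hm hlt => by_contra fun h =>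
            not_le.mpr hlt (hmin m (Finset.mem_filter.mpr ⟨hm, h⟩))
          have hm₀le : m₀ ≤ n + 1 := le_of_not_gt fun h => hm₀.2 (by rw [ha0 m₀ h]; exact N.zero_mem)
          have h1 : ∑ m ∈ sup (p v), Pi m₀ (u (a m)) ∈ N := by
            rw [← map_sum, ← hpv _ (Finset.Subset.refl _)]
            exact hNPi _ _ (hg v hv)
          rw [← Finset.add_sum_erase _ _ hm₀.1, hu m₀ m₀ (a m₀) (hdeg _) le_rfl, if_pos rfl] at h1
          refine hm₀.2 ((N.add_mem_iff_left (N.sum_mem fun m hm => ?_)).mp h1)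
          obtain ⟨hne', hmem⟩ := Finset.mem_erase.mp hm
          rcases lt_or_gt_of_ne hne' with hlt | hgt
          · exact hNPi _ _ (ih m (by omega) _ (hlow m hmem hlt) (hdeg m))
          · rw [hu m₀ m (a m) (hdeg m) hgt.le, if_neg hgt.ne]
            exact N.zero_mem
        refine ⟨hatop ▸ haN (n + 1), ?_⟩
        have h2 := hg v hv
        rw [hpv (insert (n + 1) (sup (p v))) (Finset.subset_insert _ _),
          ← Finset.add_sum_erase _ _ (Finset.mem_insert_self _ _), hatop] at h2
        refine (N.add_mem_iff_left (N.sum_mem fun m hm => ?_)).mp h2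
        obtain ⟨hne', -⟩ := Finset.mem_erase.mp hm
        rcases lt_or_gt_of_ne hne' with hlt | hgt
        · exact ih m (by omega) _ (haN m) (hdeg m)
        · rw [ha0 m hgt, map_zero]
          exact N.zero_mem
      -- `z` is bijective on this graded piece
      let Nn : Submodule R M := N.map (Pi (n + 1))
      have hmem : ∀ w, w ∈ Nn ↔ w ∈ N ∧ Pi (n + 1) w = w := fun w => by
        refine ⟨?_, fun h => ⟨w, h.1, h.2⟩⟩
        rintro ⟨w', hw', rfl⟩
        exact ⟨hNPi _ _ hw', by rw [hPi, if_pos rfl]⟩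
      have : Module.Finite R Nn := Module.Finite.iff_fg.mpr (hN.map _)
      let f : Nn →ₗ[R] Nn := z.restrict fun w hw =>
        (hmem _).mpr ⟨(claim w ((hmem w).mp hw).1 ((hmem w).mp hw).2).1, hz _ w ((hmem w).mp hw).2⟩
      let f' : Nn →ₗ[R] Nn := ((Pi (n + 1)).comp (l.comp zinv)).restrict fun w hw =>
        (hmem _).mpr ⟨hNPi _ _ (hl _), by simp [hPi]⟩
      have hff : ∀ w, f' (f w) = w := fun w => Subtype.ext (by
        change Pi (n + 1) (l (zinv (z w.1))) = w.1
        rw [hzinv, hl' _ ((hmem _).mp w.2).1, ((hmem _).mp w.2).2])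
      have hinj : Function.Injective f' :=
        OrzechProperty.injective_of_surjective_endomorphism f' fun w => ⟨f w, hff w⟩
      let x' : Nn := ⟨x, (hmem x).mpr ⟨hx, hxj⟩⟩
      have hxe : f (f' x') = x' := hinj (hff _)
      have hv := (hmem _).mp (f' x').2
      rw [show x = z (f' x').1 from (congrArg Subtype.val hxe).symm]
      exact (claim _ hv.1 hv.2).2
  intro x hx
  rw [← hsup x _ (Finset.Subset.refl _), map_sum]
  refine N.sum_mem fun n _ => ?_
  rcases lt_or_ge n (b - 1) with h | h
  · rw [hb n (by omega) x hx, map_zero]; exact N.zero_mem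
  · exact key n h n le_rfl _ (hNPi n x hx) (by rw [hPi, if_pos rfl])

end Groth.Agent.Lib.Dyn85.LinStab
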