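import Groth.Agent.Lib.Dyn85.Cell
import Groth.Agent.Lib.Dyn85.LinStab
import Groth.Agent.Lib.Comod.Basic
import Groth.Prelude.Def_GLin4
import Mathlib.LinearAlgebra.TensorProduct.Tower

/-!
# The dynamic method: closed subgroups
-/

universe u

open LaurentPolynomial TensorProduct WithConv Polynomial

attribute [-simp] LaurentPolynomial.single_eq_C_mul_T

namespace Groth.Agent.Lib.Dyn85

noncomputable section

section General

variable {k : Type u} [CommRing k] {A H : Type u} [CommRing A] [HopfAlgebra k A] [CommRing H] [HopfAlgebra k H]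
variable {R : Type u} [CommRing R] [Algebra k R]

/-- Functoriality of points in the group. -/
def pull (φ : H →ₐc[k] A) : Pt k A R →* Pt k H R where
  toFun g := toConv (g.ofConv.comp (φ : H →ₐ[k] A))
  map_one' := pt_ext fun a => by simp
  map_mul' f g := ofConv_injective (AlgHom.convMul_comp_bialgHom_distrib f g φ)

@[simp] theorem pull_apply (φ : H →ₐc[k] A) (g : Pt k A R) (a : H) : pull φ g a = g (φ a) := rfl

/-- Compatibility of two actions with a homomorphism. -/
def IsEquivariant (φ : H →ₐc[k] A) (D' : GmAct k H) (D : GmAct k A) : Prop :=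
  ∀ n a, D.π n (φ a) = φ (D'.π n a)

theorem isEquivariant_ofLam (φ : H →ₐc[k] A) (lam : A →ₐc[k] k[T;T⁻¹]) :
    IsEquivariant φ (ofLam (lam.comp φ)) (ofLam lam) := by
  intro n a
  have h : pull φ (orbPt lam) =
      post (AddMonoidAlgebra.mapAlgHom ℤ (φ : H →ₐ[k] A)) (orbPt (lam.comp φ)) := by
    rw [show (φ : H →ₐ[k] A) = (toConv (φ : H →ₐ[k] A) : Pt k H A).ofConv from rfl, map_orbPt, orbPt]
    simp only [conj, map_mul, map_inv]
    rfl
  have h1 := congrArg (fun g : Pt k H A[T;T⁻¹] => (g a).coeff n) h
  simp only [pull_apply, post_apply, AddMonoidAlgebra.coeff_mapAlgHom] at h1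
  exact h1

variable {φ : H →ₐc[k] A} {D' : GmAct k H} {D : GmAct k A}

theorem pull_mem_P_iff (hφ : Function.Surjective φ) (he : IsEquivariant φ D' D) {g : Pt k A R} :
    pull φ g ∈ D'.P R ↔ g ∈ D.P R := by
  simp only [GmAct.mem_P_iff, pull_apply, ← he _ _]
  exact ⟨fun h n hn a => by obtain ⟨b, rfl⟩ := hφ a; exact h n hn b, fun h n hn a => h n hn _⟩

theorem IsEquivariant.neg (he : IsEquivariant φ D' D) : IsEquivariant φ D'.neg D.neg := fun n a => by
  simp only [GmAct.neg_π]; exact he _ _

theorem pull_mem_U_iff (hφ : Function.Surjective φ) (he : IsEquivariant φ D' D) {g : Pt k A R} :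
    pull φ g ∈ D'.U R ↔ g ∈ D.U R := by
  rw [GmAct.mem_U_iff, GmAct.mem_U_iff, pull_mem_P_iff hφ he]
  refine and_congr_right fun _ => ?_
  simp only [pull_apply, ← he _ _]
  exact ⟨fun h a => by
    obtain ⟨b, rfl⟩ := hφ a
    rw [h b, CoalgHomClass.counit_comp_apply], fun h a => by rw [h, CoalgHomClass.counit_comp_apply]⟩

theorem pull_injective (hφ : Function.Surjective φ) : Function.Injective (pull (R := R) φ) := fun g g' h =>
  pt_ext fun a => by
    obtain ⟨b, rfl⟩ := hφ a
    exact congrArg (fun q : Pt k H R => q b) h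

theorem exists_pull_eq (hφ : Function.Surjective φ) (g : Pt k H R) (h : ∀ a, φ a = 0 → g a = 0) :
    ∃ g₀ : Pt k A R, pull φ g₀ = g := by
  let e : (H ⧸ RingHom.ker (φ : H →ₐ[k] A)) ≃ₐ[k] A :=
    Ideal.quotientKerAlgEquivOfSurjective (f := (φ : H →ₐ[k] A)) hφ
  refine ⟨toConv ((Ideal.Quotient.liftₐ _ g.ofConv fun a ha => h a ha).comp e.symm.toAlgHom), pt_ext fun a => ?_⟩
  have : e.symm (φ a) = Ideal.Quotient.mk _ a := by
    rw [AlgEquiv.symm_apply_eq]; rfl
  simp [pull, this]

/-- The comultiplication respects the degrees. -/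
theorem GmAct.map_π_comul (D : GmAct k A) {i : ℤ} {a : A} (ha : D.IsHom i a) (m : ℤ) :
    TensorProduct.map (D.π m) LinearMap.id (Coalgebra.comul (R := k) a) =
      TensorProduct.map (D.π m) (D.π (i - m)) (Coalgebra.comul (R := k) a) := by
  let q₁ : Pt k A (A ⊗[k] A) := toConv (Algebra.TensorProduct.includeLeft : A →ₐ[k] A ⊗[k] A)
  let q₂ : Pt k A (A ⊗[k] A) := toConv (Algebra.TensorProduct.includeRight : A →ₐ[k] A ⊗[k] A)
  have hq : ∀ b, (q₁ * q₂) b = Coalgebra.comul (R := k) b := fun b => by
    rw [AlgHom.convMul_apply]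
    generalize Coalgebra.comul (R := k) b = z
    induction z using TensorProduct.induction_on with
    | zero => simp
    | add x y hx hy => simp [hx, hy]
    | tmul x y => simp [q₁, q₂]
  let Φ := TensorProduct.map (D.π m) (LinearMap.id : A →ₗ[k] A)
  have h1 : Φ ((D.pt _ (q₁ * q₂) a).coeff i) = Φ ((((D.pt _ q₁) * (D.pt _ q₂)) a).coeff i) := by rw [map_mul]
  rw [GmAct.coeff_pt, D.π_self ha, hq, AlgHom.convMul_apply] at h1
  refine h1.trans ?_
  clear h1
  generalize Coalgebra.comul (R := k) a = z
  induction z using TensorProduct.induction_on with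
  | zero => simp
  | add x y hx hy =>
    rw [map_add, AddMonoidAlgebra.coeff_add, Finsupp.add_apply, map_add, hx, hy, map_add]
  | tmul x y =>
    rw [Algebra.TensorProduct.lift_tmul]
    refine D.induction_hom (p := fun x => Φ (((D.pt _ q₁) x * (D.pt _ q₂) y).coeff i) =
      TensorProduct.map (D.π m) (D.π (i - m)) (x ⊗ₜ y)) (by simp) (fun x x' hx hx' => by
        rw [map_add, add_mul, AddMonoidAlgebra.coeff_add, Finsupp.add_apply, map_add, hx, hx', TensorProduct.add_tmul,
          map_add]) (fun a x hx => ?_) x
    refine D.induction_hom (p := fun y => Φ (((D.pt _ q₁) x * (D.pt _ q₂) y).coeff i) =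
      TensorProduct.map (D.π m) (D.π (i - m)) (x ⊗ₜ y)) (by simp) (fun y y' hy hy' => by
        rw [map_add, mul_add, AddMonoidAlgebra.coeff_add, Finsupp.add_apply, map_add, hy, hy', TensorProduct.tmul_add,
          map_add]) (fun c y hy => ?_) y
    have ex : ∀ {n : ℤ} {b : A} (q : Pt k A (A ⊗[k] A)), D.IsHom n b →
        D.pt _ q b = AddMonoidAlgebra.single n (q b) := fun {n b} q hb => by
      refine LaurentPolynomial.ext fun j => ?_
      rw [GmAct.coeff_pt, D.π_of_isHom hb, AddMonoidAlgebra.coeff_single, Finsupp.single_apply]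
      simp only [eq_comm (a := j)]
      split_ifs <;> simp
    rw [ex q₁ hx, ex q₂ hy, AddMonoidAlgebra.single_mul_single, AddMonoidAlgebra.coeff_single, Finsupp.single_apply,
      apply_ite Φ, map_zero, TensorProduct.map_tmul, D.π_of_isHom hx, D.π_of_isHom hy]
    by_cases hma : m = a
    · subst hma
      by_cases hc : c = i - m
      · rw [if_pos (by omega), if_pos rfl, if_pos hc.symm]
        simp [q₁, q₂, Φ, D.π_self hx]
      · rw [if_neg (by omega), if_neg (Ne.symm hc), TensorProduct.tmul_zero]
    · rw [if_neg hma, TensorProduct.zero_tmul]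
      split_ifs
      · simp [q₁, q₂, Φ, D.π_of_isHom hx, if_neg hma]
      · rfl

/-- Right translation by a point, on the coordinate ring. -/
def tau (χ : A →ₗ[k] R) : A →ₗ[k] R ⊗[k] A :=
  (TensorProduct.comm k A R).toLinearMap ∘ₗ TensorProduct.map LinearMap.id χ ∘ₗ Coalgebra.comul

/-- Right translation by a point. -/
def T (g : Pt k A R) : R ⊗[k] A →ₗ[R] R ⊗[k] A := LinearMap.liftBaseChange R (tau g.ofConv.toLinearMap)

@[simp] theorem T_one_tmul (g : Pt k A R) (a : A) : T g (1 ⊗ₜ a) = tau g.ofConv.toLinearMap a := by
  simp [T]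

theorem T_mul (g h : Pt k A R) (x : R ⊗[k] A) : T (g * h) x = T g (T h x) := by
  induction x using TensorProduct.induction_on with
  | zero => simp
  | add x y hx hy => simp only [map_add, hx, hy]
  | tmul r a =>
    rw [show r ⊗ₜ[k] a = r • ((1 : R) ⊗ₜ[k] a) by simp [smul_tmul'], map_smul, map_smul, map_smul,
      T_one_tmul, T_one_tmul]
    congr 1
    let c := Coalgebra.Repr.arbitrary k a
    let L : A ⊗[k] (A ⊗[k] A) →ₗ[k] R ⊗[k] A :=
      (TensorProduct.comm k A R).toLinearMap ∘ₗ TensorProduct.map LinearMap.id
        (LinearMap.mul' k R ∘ₗ TensorProduct.map g.ofConv.toLinearMap h.ofConv.toLinearMap)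
    have hco := congrArg L (Coalgebra.coassoc_apply (R := k) a)
    have lhs : tau (g * h).ofConv.toLinearMap a = L ((Coalgebra.comul (R := k)).lTensor A (Coalgebra.comul a)) := by
      simp only [tau, L, LinearMap.coe_comp, LinearEquiv.coe_coe, Function.comp_apply]
      generalize Coalgebra.comul (R := k) a = z
      induction z using TensorProduct.induction_on with
      | zero => simp
      | add x y hx hy => simp only [map_add, hx, hy]
      | tmul x y => rfl
    rw [lhs, ← hco]
    conv_rhs => rw [show tau h.ofConv.toLinearMap a = _ from rfl]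
    simp only [tau, LinearMap.coe_comp, LinearEquiv.coe_coe, Function.comp_apply]
    generalize Coalgebra.comul (R := k) a = z
    induction z using TensorProduct.induction_on with
    | zero => simp
    | add x y hx hy => simp only [map_add, hx, hy]
    | tmul x y =>
      rw [TensorProduct.map_tmul, TensorProduct.comm_tmul, LinearMap.id_apply,
        show (h.ofConv.toLinearMap y) ⊗ₜ[k] x = (h y) • ((1 : R) ⊗ₜ[k] x) by simp [smul_tmul'],
        map_smul, T_one_tmul, LinearMap.rTensor_tmul]
      simp only [tau, LinearMap.coe_comp, LinearEquiv.coe_coe, Function.comp_apply, L]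
      generalize Coalgebra.comul (R := k) x = w
      induction w using TensorProduct.induction_on with
      | zero => simp
      | add x y hx hy => simp only [TensorProduct.add_tmul, map_add, smul_add, hx, hy]
      | tmul v w => simp [smul_tmul', mul_comm]

theorem T_one (x : R ⊗[k] A) : T (1 : Pt k A R) x = x := by
  induction x using TensorProduct.induction_on with
  | zero => simp
  | add x y hx hy => simp only [map_add, hx, hy]
  | tmul r a =>
    rw [show r ⊗ₜ[k] a = r • ((1 : R) ⊗ₜ[k] a) by simp [smul_tmul'], map_smul, T_one_tmul]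
    congr 1
    have h := Coalgebra.lTensor_counit_comul (R := k) a
    have e : tau (1 : Pt k A R).ofConv.toLinearMap a = (TensorProduct.comm k A R)
        ((Algebra.linearMap k R).lTensor A ((Coalgebra.counit (R := k)).lTensor A (Coalgebra.comul a))) := by
      simp only [tau, LinearMap.coe_comp, LinearEquiv.coe_coe, Function.comp_apply]
      congr 1
      generalize Coalgebra.comul (R := k) a = z
      induction z using TensorProduct.induction_on with
      | zero => simp
      | add x y hx hy => simp only [map_add, hx, hy]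
      | tmul x y => simp
    rw [e, h]
    simp

theorem baseChange_π_T (D : GmAct k A) (g : Pt k A R) {i : ℤ} {x : R ⊗[k] A}
    (hx : (D.π i).baseChange R x = x) (m : ℤ) :
    (D.π m).baseChange R (T g x) =
      (D.π m).baseChange R (LinearMap.liftBaseChange R (tau (g.ofConv.toLinearMap ∘ₗ D.π (i - m))) x) := by
  rw [← hx]
  clear hx
  induction x using TensorProduct.induction_on with
  | zero => simp
  | add x y hx hy => simp only [map_add, hx, hy]
  | tmul r a =>
    rw [LinearMap.baseChange_tmul, show r ⊗ₜ[k] D.π i a = r • ((1 : R) ⊗ₜ[k] D.π i a) by simp [smul_tmul'],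
      map_smul, map_smul, map_smul, map_smul, T_one_tmul, LinearMap.liftBaseChange_tmul, one_smul]
    congr 1
    have key : ∀ χ : A →ₗ[k] R, (D.π m).baseChange R (tau χ (D.π i a)) = (TensorProduct.comm k A R)
        (TensorProduct.map LinearMap.id χ
          (TensorProduct.map (D.π m) LinearMap.id (Coalgebra.comul (R := k) (D.π i a)))) := fun χ => by
      simp only [tau, LinearMap.coe_comp, LinearEquiv.coe_coe, Function.comp_apply]
      generalize Coalgebra.comul (R := k) (D.π i a) = z
      induction z using TensorProduct.induction_on with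
      | zero => simp
      | add x y hx hy => simp only [map_add, hx, hy]
      | tmul x y => simp
    rw [key, key]
    conv_lhs => rw [D.map_π_comul (D.isHom_π i a)]
    generalize Coalgebra.comul (R := k) (D.π i a) = z
    induction z using TensorProduct.induction_on with
    | zero => simp
    | add x y hx hy => simp only [map_add, hx, hy]
    | tmul x y => simp

theorem liftBaseChange_tau_zero (x : R ⊗[k] A) :
    LinearMap.liftBaseChange R (tau (0 : A →ₗ[k] R)) x = 0 := by
  have : tau (0 : A →ₗ[k] R) = 0 := by ext a; simp [tau]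
  rw [this]
  induction x using TensorProduct.induction_on with
  | zero => simp
  | add x y hx hy => simp only [map_add, hx, hy, add_zero]
  | tmul r a => simp

theorem baseChange_π_π (D : GmAct k A) (m n : ℤ) (x : R ⊗[k] A) :
    (D.π m).baseChange R ((D.π n).baseChange R x) = if m = n then (D.π n).baseChange R x else 0 := by
  induction x using TensorProduct.induction_on with
  | zero => simp
  | add x y hx hy => simp only [map_add, hx, hy]; split_ifs <;> simp
  | tmul r a => simp only [LinearMap.baseChange_tmul, D.π_π]; split_ifs <;> simp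

theorem exists_sum_baseChange_π (D : GmAct k A) (x : R ⊗[k] A) :
    ∃ s : Finset ℤ, ∀ t, s ⊆ t → ∑ n ∈ t, (D.π n).baseChange R x = x := by
  classical
  induction x using TensorProduct.induction_on with
  | zero => exact ⟨∅, fun t _ => by simp⟩
  | tmul r a =>
    exact ⟨_, fun t ht => by
      simp only [LinearMap.baseChange_tmul]
      rw [← TensorProduct.tmul_sum, D.eq_sum_π ht]⟩
  | add x y hx hy =>
    obtain ⟨s, hs⟩ := hx
    obtain ⟨s', hs'⟩ := hy
    exact ⟨s ∪ s', fun t ht => by
      simp only [map_add, Finset.sum_add_distrib, hs t (Finset.union_subset_left ht),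
        hs' t (Finset.union_subset_right ht)]⟩

end General

section Field

variable {k : Type u} [Field k] {A H : Type u} [CommRing A] [HopfAlgebra k A] [CommRing H] [HopfAlgebra k H]
variable {φ : H →ₐc[k] A} {D' : GmAct k H} {D : GmAct k A}
variable {R : Type u} [CommRing R] [Algebra k R]

/-- A finite dimensional graded space of equations, stable under the subgroup. -/
theorem exists_graded_stable (he : IsEquivariant φ D' D) (f : H) (hf : φ f = 0) :
    ∃ V : Submodule k H, V.FG ∧ f ∈ V ∧ (∀ v ∈ V, φ v = 0) ∧ (∀ n, ∀ v ∈ V, D'.π n v ∈ V) ∧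
      ∀ θ : A →ₗ[k] k, ∀ v ∈ V, Lib.Comod.Basic.contract H (θ ∘ₗ (φ : H →ₗ[k] A)) (Coalgebra.comul v) ∈ V := by
  classical
  let φl : H →ₗ[k] A := (φ : H →ₐ[k] A).toLinearMap
  let dact : (H →ₗ[k] k) → (H →ₗ[k] H) := fun χ => Lib.Comod.Basic.contract H χ ∘ₗ Coalgebra.comul
  let pr : ℤ → H := fun i => D'.π i f
  let gen : ℤ → ((A →ₗ[k] k) →ₗ[k] H) := fun i =>
    { toFun := fun θ => dact (θ ∘ₗ φl) (pr i)
      map_add' := fun θ θ' => by
        simp [dact, Lib.Comod.Basic.contract, LinearMap.add_comp, LinearMap.lTensor_add]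
      map_smul' := fun c θ => by
        simp [dact, Lib.Comod.Basic.contract, LinearMap.smul_comp, LinearMap.lTensor_smul] }
  let s := (D'.orb f).coeff.support
  let V : Submodule k H := ⨆ i ∈ s, LinearMap.range (gen i)
  have hgen : ∀ i θ, gen i θ ∈ V := fun i θ => by
    by_cases hi : i ∈ s
    · exact le_biSup (fun i => LinearMap.range (gen i)) hi ⟨θ, rfl⟩
    · have : pr i = 0 := Finsupp.notMem_support_iff.mp hi
      simp [gen, this]
  have hind : ∀ {p : H → Prop}, p 0 → (∀ x y, p x → p y → p (x + y)) →
      (∀ i θ, p (gen i θ)) → ∀ v ∈ V, p v := fun {p} h0 hadd hg v hv => by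
    induction hv using Submodule.iSup_induction' with
    | mem i x hx =>
      by_cases hi : i ∈ s
      · rw [iSup_pos hi] at hx
        obtain ⟨θ, rfl⟩ := hx
        exact hg i θ
      · rw [iSup_neg hi, Submodule.mem_bot] at hx
        subst hx
        exact h0
    | zero => exact h0
    | add x y _ _ hx hy => exact hadd x y hx hy
  refine ⟨V, Submodule.fg_biSup _ _ fun i _ => ?_, ?_, ?_, ?_, ?_⟩
  · obtain ⟨S, hS⟩ := TensorProduct.exists_finset (Coalgebra.comul (R := k) (pr i))
    refine Submodule.FG.of_le (Submodule.fg_span (S.image Prod.fst).finite_toSet) ?_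
    rintro _ ⟨θ, rfl⟩
    simp only [gen, LinearMap.coe_mk, AddHom.coe_mk, dact, LinearMap.coe_comp, Function.comp_apply, hS, map_sum]
    refine Submodule.sum_mem _ fun x hx => ?_
    rw [Lib.Comod.Basic.contract_tmul]
    exact Submodule.smul_mem _ _ (Submodule.subset_span (Finset.mem_image_of_mem _ hx))
  · rw [← D'.sum_π f]
    refine Submodule.sum_mem _ fun i _ => ?_
    have : gen i (Coalgebra.counit (R := k)) = pr i := by
      simp only [gen, LinearMap.coe_mk, AddHom.coe_mk, dact, LinearMap.coe_comp, Function.comp_apply]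
      rw [show Coalgebra.counit ∘ₗ φl = Coalgebra.counit (R := k) from
        LinearMap.ext fun a => CoalgHomClass.counit_comp_apply φ a]
      simp [Lib.Comod.Basic.contract, Coalgebra.lTensor_counit_comul]
    have h := hgen i (Coalgebra.counit (R := k))
    rwa [this] at h
  · refine hind (map_zero φ) (fun x y hx hy => by rw [map_add, hx, hy, add_zero]) fun i θ => ?_
    change φl (dact (θ ∘ₗ φl) (pr i)) = 0
    have : φl (dact (θ ∘ₗ φl) (pr i)) =
        Lib.Comod.Basic.contract A θ (TensorProduct.map φl φl (Coalgebra.comul (pr i))) := by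
      simp only [dact, LinearMap.coe_comp, Function.comp_apply]
      generalize Coalgebra.comul (R := k) (pr i) = z
      induction z using TensorProduct.induction_on with
      | zero => simp
      | add x y hx hy => simp only [map_add, hx, hy]
      | tmul x y => simp
    rw [this, show TensorProduct.map φl φl (Coalgebra.comul (pr i)) = Coalgebra.comul (φ (pr i)) from
      CoalgHomClass.map_comp_comul_apply φ (pr i)]
    rw [show φ (pr i) = 0 by rw [← he, hf, map_zero], map_zero, map_zero]
  · intro n
    refine hind (by simp) (fun x y hx hy => by rw [map_add]; exact V.add_mem hx hy) fun i θ => ?_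
    have : D'.π n (gen i θ) = gen i (θ ∘ₗ D.π (i - n)) := by
      simp only [gen, LinearMap.coe_mk, AddHom.coe_mk, dact, LinearMap.coe_comp, Function.comp_apply]
      have e : ∀ χ : H →ₗ[k] k, ∀ z : H ⊗[k] H, D'.π n (Lib.Comod.Basic.contract H χ z) =
          Lib.Comod.Basic.contract H χ (TensorProduct.map (D'.π n) LinearMap.id z) := fun χ z => by
        induction z using TensorProduct.induction_on with
        | zero => simp
        | add x y hx hy => simp only [map_add, hx, hy]
        | tmul x y => simp
      rw [e, D'.map_π_comul (D'.isHom_π i f)]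
      have e2 : ∀ z : H ⊗[k] H,
          Lib.Comod.Basic.contract H (θ ∘ₗ φl) (TensorProduct.map (D'.π n) (D'.π (i - n)) z) =
          D'.π n (Lib.Comod.Basic.contract H ((θ ∘ₗ D.π (i - n)) ∘ₗ φl) z) := fun z => by
        induction z using TensorProduct.induction_on with
        | zero => simp
        | add x y hx hy => simp only [map_add, hx, hy]
        | tmul x y => simp [φl, he _ _]
      rw [e2, e, D'.map_π_comul (D'.isHom_π i f)]
      have e3 : ∀ z : H ⊗[k] H,
          Lib.Comod.Basic.contract H ((θ ∘ₗ D.π (i - n)) ∘ₗ φl) (TensorProduct.map (D'.π n) (D'.π (i - n)) z) =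
          Lib.Comod.Basic.contract H (((θ ∘ₗ D.π (i - n)) ∘ₗ φl) ∘ₗ D'.π (i - n))
            (TensorProduct.map (D'.π n) LinearMap.id z) := fun z => by
        induction z using TensorProduct.induction_on with
        | zero => simp
        | add x y hx hy => simp only [map_add, hx, hy]
        | tmul x y => simp
      rw [e3]
      -- remove the projection on the first factor
      have e4 : ((θ ∘ₗ D.π (i - n)) ∘ₗ φl) ∘ₗ D'.π (i - n) = (θ ∘ₗ D.π (i - n)) ∘ₗ φl :=
        LinearMap.ext fun y => by simp [φl, ← he _ _, D.π_π]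
      rw [e4]
      have e5 : ∀ m ≠ n, Lib.Comod.Basic.contract H ((θ ∘ₗ D.π (i - n)) ∘ₗ φl)
          (TensorProduct.map (D'.π m) LinearMap.id (Coalgebra.comul (D'.π i f))) = 0 := fun m hm => by
        rw [D'.map_π_comul (D'.isHom_π i f)]
        generalize Coalgebra.comul (R := k) (D'.π i f) = z
        induction z using TensorProduct.induction_on with
        | zero => simp
        | add x y hx hy => simp only [map_add, hx, hy, add_zero]
        | tmul x y =>
          simp [φl, ← he _ _, D.π_π, show ¬ i - n = i - m by omega]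
      obtain ⟨t, ht⟩ : ∃ t : Finset ℤ, ∀ t', t ⊆ t' →
          ∑ m ∈ t', TensorProduct.map (D'.π m) LinearMap.id (Coalgebra.comul (R := k) (D'.π i f)) =
            Coalgebra.comul (R := k) (D'.π i f) := by
        generalize Coalgebra.comul (R := k) (D'.π i f) = z
        induction z using TensorProduct.induction_on with
        | zero => exact ⟨∅, fun t _ => by simp⟩
        | tmul x y => exact ⟨_, fun t ht => by simp only [TensorProduct.map_tmul]; rw [← TensorProduct.sum_tmul, D'.eq_sum_π ht]; rfl⟩
        | add x y hx hy =>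
          obtain ⟨s, hs⟩ := hx
          obtain ⟨s', hs'⟩ := hy
          exact ⟨s ∪ s', fun t ht => by
            simp only [map_add, Finset.sum_add_distrib, hs t (Finset.union_subset_left ht),
              hs' t (Finset.union_subset_right ht)]⟩
      conv_rhs => rw [← ht (insert n t) (Finset.subset_insert _ _)]
      rw [map_sum, Finset.sum_eq_single_of_mem n (Finset.mem_insert_self _ _) fun m _ hm => e5 m hm]
    exact this ▸ hgen _ _
  · intro θ
    refine hind (by simp) (fun x y hx hy => by rw [map_add, map_add]; exact V.add_mem hx hy) fun i θ' => ?_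
    let χ : A →ₗ[k] k := LinearMap.mul' k k ∘ₗ TensorProduct.map θ θ' ∘ₗ Coalgebra.comul
    have : dact (θ ∘ₗ φl) (gen i θ') = gen i χ := by
      let _ : HopfRep.Comod k H H :=
        { coact := Coalgebra.comul
          coassoc := Coalgebra.coassoc
          counit_comp := Coalgebra.lTensor_counit_comp_comul }
      change Lib.Comod.Basic.dact H (θ ∘ₗ φl) (Lib.Comod.Basic.dact H (θ' ∘ₗ φl) (pr i)) =
        Lib.Comod.Basic.dact H (χ ∘ₗ φl) (pr i)
      rw [Lib.Comod.Basic.dact_dact]
      congr 2
      ext h
      simp only [Lib.Comod.Basic.conv, χ, LinearMap.coe_comp, Function.comp_apply]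
      rw [show Coalgebra.comul (φl h) = TensorProduct.map φl φl (Coalgebra.comul h) from
        (CoalgHomClass.map_comp_comul_apply φ h).symm]
      rw [← LinearMap.comp_apply (TensorProduct.map θ θ'), ← TensorProduct.map_comp]
    exact this ▸ hgen i χ

/-- A factorisation of a point of the subgroup takes place inside it. -/
theorem factor_mem (he : IsEquivariant φ D' D) {u p : Pt k H R} (hu : u ∈ D'.neg.U R) (hp : p ∈ D'.P R)
    {g : Pt k A R} (hg : pull φ g = u * p) {f : H} (hf : φ f = 0) : u f = 0 := by
  classical
  obtain ⟨V, hVfg, hfV, hVker, hVπ, hVθ⟩ := exists_graded_stable he f hf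
  obtain ⟨W, hW⟩ := Submodule.exists_isCompl V
  let pV : H →ₗ[k] H := V.subtype ∘ₗ V.projectionOnto W hW
  have hpV : ∀ v ∈ V, pV v = v := fun v hv => congrArg Subtype.val (V.projectionOnto_apply_left hW ⟨v, hv⟩)
  have hpVmem : ∀ v, pV v ∈ V := fun v => (V.projectionOnto W hW v).2
  let N : Submodule R (R ⊗[k] H) := Submodule.span R ((fun v => (1 : R) ⊗ₜ[k] v) '' (V : Set H))
  have hN1 : ∀ r, ∀ v ∈ V, r ⊗ₜ[k] v ∈ N := fun r v hv => by
    rw [show r ⊗ₜ[k] v = r • ((1 : R) ⊗ₜ[k] v) by simp [smul_tmul']]
    exact N.smul_mem _ (Submodule.subset_span ⟨v, hv, rfl⟩)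
  have hlN : ∀ x, pV.baseChange R x ∈ N := fun x => by
    induction x using TensorProduct.induction_on with
    | zero => simp
    | add x y hx hy => rw [map_add]; exact N.add_mem hx hy
    | tmul r a => rw [LinearMap.baseChange_tmul]; exact hN1 r _ (hpVmem a)
  have hNeq : ∀ {Φ Ψ : R ⊗[k] H →ₗ[R] R ⊗[k] H}, (∀ v ∈ V, Φ (1 ⊗ₜ v) = Ψ (1 ⊗ₜ v)) → ∀ x ∈ N, Φ x = Ψ x :=
    fun h x hx => by
    induction hx using Submodule.span_induction with
    | mem y hy => obtain ⟨v, hv, rfl⟩ := hy; exact h v hv
    | zero => simp
    | add y z _ _ hy hz => simp [hy, hz]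
    | smul c y _ hy => simp [hy]
  have hlid : ∀ x ∈ N, pV.baseChange R x = x :=
    hNeq (Φ := pV.baseChange R) (Ψ := LinearMap.id) fun v hv => by simp [hpV v hv]
  have hNfg : N.FG := by
    obtain ⟨S, hS⟩ := hVfg
    refine ⟨S.image (fun v => (1 : R) ⊗ₜ[k] v), le_antisymm (Submodule.span_mono ?_) (Submodule.span_le.mpr ?_)⟩
    · rw [Finset.coe_image]
      exact Set.image_mono (hS ▸ Submodule.subset_span)
    · rintro _ ⟨v, hv, rfl⟩
      rw [← hS] at hv
      rw [Finset.coe_image]
      induction hv using Submodule.span_induction with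
      | mem y hy => exact Submodule.subset_span ⟨y, hy, rfl⟩
      | zero => simp
      | add y z _ _ hy hz =>
        rw [SetLike.mem_coe] at hy hz ⊢
        beta_reduce
        rw [TensorProduct.tmul_add]; exact Submodule.add_mem _ hy hz
      | smul c y _ hy =>
        rw [SetLike.mem_coe] at hy ⊢
        beta_reduce
        rw [TensorProduct.tmul_smul, ← algebraMap_smul R c]
        exact Submodule.smul_mem _ _ hy
  obtain ⟨z, hz, hzv, -⟩ := D'.exists_limit hp
  have hgN : ∀ x ∈ N, T u (T p x) ∈ N := fun x hx => by
    rw [← T_mul, ← hg]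
    induction hx using Submodule.span_induction with
    | mem y hy =>
      obtain ⟨v, hv, rfl⟩ := hy
      rw [T_one_tmul]
      have key : ((pV - (LinearMap.id : H →ₗ[k] H)).baseChange R) (tau (pull φ g).ofConv.toLinearMap v) = 0 := by
        have h0 : TensorProduct.map (pV - (LinearMap.id : H →ₗ[k] H)) (φ : H →ₗ[k] A) (Coalgebra.comul v) = 0 := by
          refine Lib.Comod.Basic.ext_contract fun θ => ?_
          have : Lib.Comod.Basic.contract H θ (TensorProduct.map (pV - (LinearMap.id : H →ₗ[k] H)) (φ : H →ₗ[k] A)
              (Coalgebra.comul v)) = (pV - (LinearMap.id : H →ₗ[k] H))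
                (Lib.Comod.Basic.contract H (θ ∘ₗ (φ : H →ₗ[k] A)) (Coalgebra.comul v)) := by
            generalize Coalgebra.comul (R := k) v = z
            induction z using TensorProduct.induction_on with
            | zero => simp
            | add x y hx hy => simp only [map_add, hx, hy]
            | tmul x y => simp [smul_sub]
          rw [this, LinearMap.sub_apply, hpV _ (hVθ θ v hv), LinearMap.id_apply, sub_self, map_zero]
        have : ((pV - (LinearMap.id : H →ₗ[k] H)).baseChange R) (tau (pull φ g).ofConv.toLinearMap v) =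
            (TensorProduct.comm k H R) (TensorProduct.map LinearMap.id g.ofConv.toLinearMap
              (TensorProduct.map (pV - (LinearMap.id : H →ₗ[k] H)) (φ : H →ₗ[k] A) (Coalgebra.comul v))) := by
          simp only [tau, LinearMap.coe_comp, LinearEquiv.coe_coe, Function.comp_apply]
          generalize Coalgebra.comul (R := k) v = z
          induction z using TensorProduct.induction_on with
          | zero => simp
          | add x y hx hy => simp only [map_add, hx, hy]
          | tmul x y => simp [pull, TensorProduct.tmul_sub]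
        rw [this, h0, map_zero, map_zero]
      rw [LinearMap.baseChange_sub, LinearMap.sub_apply, LinearMap.baseChange_id, LinearMap.id_apply, sub_eq_zero] at key
      exact key ▸ hlN _
    | zero => simp
    | add y w _ _ hy hw => rw [map_add]; exact N.add_mem hy hw
    | smul c y _ hy => rw [map_smul]; exact N.smul_mem _ hy
  have hu' := D'.neg.mem_U_iff.mp hu
  have hpdeg := D'.mem_P_iff.mp hp
  have hzero : ∀ (g : Pt k H R) (j : ℤ), (∀ a, g (D'.π j a) = 0) → g.ofConv.toLinearMap ∘ₗ D'.π j = 0 :=
    fun g j h => LinearMap.ext h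
  have huN : T u (1 ⊗ₜ[k] f) ∈ N := by
    refine LinStab.stable (fun n => (D'.π n).baseChange R) (baseChange_π_π D') (exists_sum_baseChange_π D')
      (T u) (T p) (T z) (T z⁻¹) ?_ ?_ ?_ (fun x => by rw [← T_mul, inv_mul_cancel, T_one]) N hNfg ?_
      (pV.baseChange R) hlN hlid hgN _ (hN1 1 f hfV)
    · intro m i x hx hmi
      rw [baseChange_π_T D' u hx]
      split_ifs with h
      · subst h
        have : u.ofConv.toLinearMap ∘ₗ D'.π (m - m) = (1 : Pt k H R).ofConv.toLinearMap := by
          refine LinearMap.ext fun a => ?_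
          have h0 := hu'.2 a
          rw [GmAct.neg_π, neg_zero] at h0
          simpa [sub_self] using h0
        rw [this]
        change (D'.π m).baseChange R (T 1 x) = x
        rw [T_one, hx]
      · rw [hzero u (i - m) (fun a => by
          have := D'.neg.mem_P_iff.mp hu'.1 (-(i - m)) (by omega) a
          rwa [GmAct.neg_π, neg_neg] at this), liftBaseChange_tau_zero, map_zero]
    · intro m i x hx him
      rw [baseChange_π_T D' p hx]
      split_ifs with h
      · subst h
        have hz' : (D'.π m).baseChange R (T z x) = T z x := by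
          rw [baseChange_π_T D' z hx]
          have h2 : ∀ n, (D'.π n).baseChange R (T z x) =
              if n = m then (D'.π m).baseChange R (T z x) else 0 := fun n => by
            split_ifs with hn
            · rw [hn]
            · rw [baseChange_π_T D' z hx, hzero z (m - n) (D'.mem_Z_iff.mp hz _ (by omega)), liftBaseChange_tau_zero,
                map_zero]
          obtain ⟨s, hs⟩ := exists_sum_baseChange_π D' (T z x)
          conv_rhs => rw [← hs (insert m s) (Finset.subset_insert _ _)]
          rw [Finset.sum_eq_single_of_mem m (Finset.mem_insert_self _ _) fun n _ hn => by rw [h2, if_neg hn],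
            baseChange_π_T D' z hx]
        rw [← hz', baseChange_π_T D' z hx]
        congr 2
        rw [sub_self]
        congr 2
        refine LinearMap.ext fun a => ?_
        change p (D'.π 0 a) = z (D'.π 0 a)
        rw [hzv, D'.π_π, if_pos rfl]
      · rw [hzero p (i - m) (hpdeg _ (by omega)), liftBaseChange_tau_zero, map_zero]
    · intro i x hx
      have h2 : ∀ n ≠ i, (D'.π n).baseChange R (T z x) = 0 := fun n hn => by
        rw [baseChange_π_T D' z hx, hzero z (i - n) (D'.mem_Z_iff.mp hz _ (by omega)), liftBaseChange_tau_zero,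
          map_zero]
      obtain ⟨s, hs⟩ := exists_sum_baseChange_π D' (T z x)
      conv_rhs => rw [← hs (insert i s) (Finset.subset_insert _ _)]
      rw [Finset.sum_eq_single_of_mem i (Finset.mem_insert_self _ _) fun n _ hn => h2 n hn]
    · intro n x hx
      induction hx using Submodule.span_induction with
      | mem y hy => obtain ⟨v, hv, rfl⟩ := hy; rw [LinearMap.baseChange_tmul]; exact hN1 _ _ (hVπ n v hv)
      | zero => simp
      | add y w _ _ hy hw => rw [map_add]; exact N.add_mem hy hw
      | smul c y _ hy => rw [map_smul]; exact N.smul_mem _ hy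
  -- evaluate at the identity
  let evε : R ⊗[k] H →ₗ[k] R := (TensorProduct.rid k R).toLinearMap ∘ₗ (Coalgebra.counit (R := k)).lTensor R
  have h1 : evε (T u (1 ⊗ₜ[k] f)) = u f := by
    rw [T_one_tmul]
    simp only [tau, evε, LinearMap.coe_comp, LinearEquiv.coe_coe, Function.comp_apply]
    have e : ∀ w : H ⊗[k] H, (TensorProduct.rid k R) ((Coalgebra.counit (R := k)).lTensor R
        ((TensorProduct.comm k H R) (TensorProduct.map LinearMap.id u.ofConv.toLinearMap w))) =
          u ((TensorProduct.lid k H) ((Coalgebra.counit (R := k)).rTensor H w)) := fun w => by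
      induction w using TensorProduct.induction_on with
      | zero => simp
      | add x y hx hy => simp only [map_add, hx, hy]
      | tmul x y => simp
    rw [e, Coalgebra.rTensor_counit_comul]
    simp
  have hsmul : ∀ (c : R) y, evε (c • y) = c * evε y := fun c y => by
    induction y using TensorProduct.induction_on with
    | zero => simp
    | add a b ha hb => rw [smul_add, map_add, map_add, ha, hb, mul_add]
    | tmul r a => simp [evε, smul_tmul', mul_smul_comm]
  have h2 : ∀ x ∈ N, evε x = 0 := fun x hx => by
    induction hx using Submodule.span_induction with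
    | mem y hy =>
      obtain ⟨v, hv, rfl⟩ := hy
      simp [evε, ← CoalgHomClass.counit_comp_apply φ v, hVker v hv]
    | zero => simp
    | add y w _ _ hy hw => simp [hy, hw]
    | smul c y _ hy => rw [hsmul, hy, mul_zero]
  rw [← h1, h2 _ huN]

end Field

end

end Groth.Agent.Lib.Dyn85
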