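import Groth.Agent.Lib.Dyn85.Sub
import Mathlib.RingTheory.Smooth.Basic
import Mathlib.RingTheory.Etale.Basic
import Mathlib.RingTheory.Polynomial.Basic

/-!
# The dynamic method: lifting across square zero ideals
-/

universe u

open LaurentPolynomial TensorProduct WithConv Polynomial

attribute [-simp] LaurentPolynomial.single_eq_C_mul_T

namespace Groth.Agent.Lib.Dyn85

noncomputable section

variable {k : Type u} [CommRing k] {A : Type u} [CommRing A] [HopfAlgebra k A]

namespace GmAct

variable (D : GmAct k A)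

open Classical in
/-- The projection onto the degrees in `s`, composed with degreewise linear maps. -/
def collect {M : Type u} [AddCommGroup M] [Module k M] (φ : ℤ → (A →ₗ[k] M)) : A →ₗ[k] M :=
  (Finsupp.lsum k φ) ∘ₗ
    { toFun := fun a => (D.orb a).coeff
      map_add' := fun a b => by simp
      map_smul' := fun c a => by simp }

theorem collect_of_isHom {M : Type u} [AddCommGroup M] [Module k M] (φ : ℤ → (A →ₗ[k] M)) {n : ℤ} {a : A}
    (h : D.IsHom n a) : D.collect φ a = φ n a := by
  simp only [collect, LinearMap.coe_comp, LinearMap.coe_mk, AddHom.coe_mk, Function.comp_apply]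
  rw [h, AddMonoidAlgebra.coeff_single, Finsupp.lsum_single]

/-- A linear map which is multiplicative on homogeneous elements is multiplicative. -/
theorem mul_of_hom {S : Type u} [CommRing S] [Algebra k S] (L : A →ₗ[k] S)
    (h : ∀ i j a b, D.IsHom i a → D.IsHom j b → L (a * b) = L a * L b) (a b : A) : L (a * b) = L a * L b := by
  refine D.induction_hom (p := fun a => L (a * b) = L a * L b) (by simp) (fun x y hx hy => by simp [add_mul, hx, hy])
    (fun i x hx => ?_) a
  refine D.induction_hom (p := fun b => L (x * b) = L x * L b) (by simp) (fun u v hu hv => by simp [mul_add, hu, hv])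
    (fun j y hy => h i j x y hx hy) b

theorem pt_eq_of_hom {R : Type u} [CommRing R] [Algebra k R] {g g' : Pt k A R}
    (h : ∀ n a, D.IsHom n a → g a = g' a) : g = g' :=
  pt_ext fun a => D.induction_hom (p := fun a => g a = g' a) (by simp) (fun x y hx hy => by simp [hx, hy]) h a

theorem counit_of_isHom {n : ℤ} {a : A} (h : D.IsHom n a) (hn : n ≠ 0) : Coalgebra.counit (R := k) a = 0 := by
  rw [← D.π_self h, D.counit_π, if_neg hn]

variable {R : Type u} [CommRing R] [Algebra k R] {I : Ideal R}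

theorem mul_eq_zero_of_sq (hI : I ^ 2 = ⊥) {x y : R} (hx : x ∈ I) (hy : y ∈ I) : x * y = 0 := by
  have : x * y ∈ I ^ 2 := by rw [pow_two]; exact Ideal.mul_mem_mul hx hy
  rwa [hI] at this

/-- Points with a limit lift. -/
theorem exists_lift_P [Algebra.FormallySmooth k A] (hI : I ^ 2 = ⊥) (g₀ : Pt k A (R ⧸ I))
    (h₀ : g₀ ∈ D.P (R ⧸ I)) : ∃ g ∈ D.P R, post (Ideal.Quotient.mkₐ k I) g = g₀ := by
  classical
  obtain ⟨q, hq⟩ := id h₀
  let qmap : R[X] →ₐ[k] (R ⧸ I)[X] := Polynomial.mapAlgHom (Ideal.Quotient.mkₐ k I)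
  have hsurj : Function.Surjective qmap :=
    Polynomial.map_surjective _ Ideal.Quotient.mk_surjective
  have hker : IsNilpotent (RingHom.ker (qmap : R[X] →+* (R ⧸ I)[X])) := by
    refine ⟨2, ?_⟩
    rw [show (qmap : R[X] →+* (R ⧸ I)[X]) = Polynomial.mapRingHom (Ideal.Quotient.mk I) from RingHom.ext fun _ => rfl,
      Polynomial.ker_mapRingHom, Ideal.mk_ker, ← Ideal.map_pow, hI, Ideal.map_bot]
    rfl
  let h : A →ₐ[k] R[X] := Algebra.FormallySmooth.liftOfSurjective q.ofConv qmap hsurj hker
  have hmk : ∀ (a : A) (m : ℕ), Ideal.Quotient.mk I ((h a).coeff m) = g₀ (D.π m a) := fun a m => by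
    rw [← coeff_pt, ← hq, post_apply, coeff_toL_nat]
    rw [← Algebra.FormallySmooth.liftOfSurjective_apply q.ofConv qmap hsurj hker a]
    exact (Polynomial.coeff_map (Ideal.Quotient.mk I) m).symm
  let φ : ℤ → (A →ₗ[k] R) := fun n =>
    if 0 ≤ n then ((Polynomial.lcoeff R n.toNat).restrictScalars k).comp h.toLinearMap else 0
  let L : A →ₗ[k] R := D.collect φ
  have hLpos : ∀ (m : ℕ) a, D.IsHom m a → L a = (h a).coeff m := fun m a ha => by
    simp only [L, D.collect_of_isHom φ ha]
    simp [φ]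
  have hLneg : ∀ n < 0, ∀ a, D.IsHom n a → L a = 0 := fun n hn a ha => by
    simp only [L, D.collect_of_isHom φ ha]
    simp [φ, not_le.mpr hn]
  have hoff : ∀ (i : ℤ) (m : ℕ) a, D.IsHom i a → (m : ℤ) ≠ i → (h a).coeff m ∈ I := fun i m a ha hne => by
    rw [← Ideal.Quotient.eq_zero_iff_mem, hmk, D.π_of_isHom ha, if_neg hne, map_zero]
  have hone : L 1 = 1 := by
    rw [hLpos 0 1 (by exact_mod_cast D.isHom_one), map_one]; simp
  have hmul : ∀ a b, L (a * b) = L a * L b := D.mul_of_hom L fun i j a b ha hb => by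
    have hab := ha.mul D hb
    rcases lt_or_ge (i + j) 0 with hij | hij
    · rw [hLneg _ hij _ hab]
      rcases lt_or_ge i 0 with hi | hi
      · rw [hLneg i hi a ha, zero_mul]
      · rw [hLneg j (by omega) b hb, mul_zero]
    · obtain ⟨N, hN⟩ := Int.eq_ofNat_of_zero_le hij
      rw [hN] at hab
      rw [hLpos N _ hab, map_mul, Polynomial.coeff_mul]
      by_cases hboth : 0 ≤ i ∧ 0 ≤ j
      · obtain ⟨i', rfl⟩ := Int.eq_ofNat_of_zero_le hboth.1
        obtain ⟨j', rfl⟩ := Int.eq_ofNat_of_zero_le hboth.2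
        rw [hLpos i' a ha, hLpos j' b hb]
        refine Finset.sum_eq_single_of_mem (i', j') (Finset.HasAntidiagonal.mem_antidiagonal.mpr (by omega)) fun p hp hne => ?_
        have hsum := Finset.HasAntidiagonal.mem_antidiagonal.mp hp
        refine mul_eq_zero_of_sq hI (hoff _ p.1 a ha fun e => hne ?_) (hoff _ p.2 b hb fun e => hne ?_) <;>
          exact Prod.ext (by omega) (by omega)
      · have : L a * L b = 0 := by
          rcases lt_or_ge i 0 with hi | hi
          · rw [hLneg i hi a ha, zero_mul]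
          · rw [hLneg j (by omega) b hb, mul_zero]
        rw [this]
        refine Finset.sum_eq_zero fun p hp => ?_
        have hsum := Finset.HasAntidiagonal.mem_antidiagonal.mp hp
        exact mul_eq_zero_of_sq hI (hoff i p.1 a ha (by omega)) (hoff j p.2 b hb (by omega))
  refine ⟨toConv (AlgHom.ofLinearMap L hone hmul), D.mem_P_iff.mpr fun n hn a => hLneg n hn _ (D.isHom_π n a), ?_⟩
  refine D.pt_eq_of_hom fun n a ha => ?_
  change Ideal.Quotient.mk I (L a) = g₀ a
  rcases lt_or_ge n 0 with hn | hn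
  · rw [hLneg n hn a ha, map_zero, ← D.π_self ha, D.mem_P_iff.mp h₀ n hn a]
  · obtain ⟨m, rfl⟩ := Int.eq_ofNat_of_zero_le hn
    rw [hLpos m a ha, hmk, D.π_self ha]

/-- Points tending to `1` lift. -/
theorem exists_lift_U [Algebra.FormallySmooth k A] (hI : I ^ 2 = ⊥) (g₀ : Pt k A (R ⧸ I))
    (h₀ : g₀ ∈ D.U (R ⧸ I)) : ∃ g ∈ D.U R, post (Ideal.Quotient.mkₐ k I) g = g₀ := by
  obtain ⟨g, hg, e⟩ := D.exists_lift_P hI g₀ (D.U_le_P h₀)
  obtain ⟨z, -, hz, hu⟩ := D.exists_limit hg
  refine ⟨z⁻¹ * g, hu, ?_⟩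
  have hz1 : post (Ideal.Quotient.mkₐ k I) z = 1 := pt_ext fun a => by
    rw [post_apply, hz, ← post_apply, e, (D.mem_U_iff.mp h₀).2, AlgHom.convOne_apply]
  rw [map_mul, map_inv, hz1, inv_one, one_mul, e]

/-- A point congruent to `1` is a product of two, in the opposite `U` and in `P`. -/
theorem exists_split (hI : I ^ 2 = ⊥) (d : Pt k A R) (hd : post (Ideal.Quotient.mkₐ k I) d = 1) :
    ∃ dm ∈ D.neg.U R, ∃ dp ∈ D.P R, post (Ideal.Quotient.mkₐ k I) dm = 1 ∧
      post (Ideal.Quotient.mkₐ k I) dp = 1 ∧ dm * dp = d := by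
  classical
  let ε : A →ₗ[k] R := (1 : Pt k A R).ofConv.toLinearMap
  let Δd : A →ₗ[k] R := d.ofConv.toLinearMap - ε
  have hεapp : ∀ a, ε a = algebraMap k R (Coalgebra.counit a) := fun a => AlgHom.convOne_apply a
  have hΔI : ∀ a, Δd a ∈ I := fun a => by
    rw [← Ideal.Quotient.eq_zero_iff_mem]
    have h1 : post (Ideal.Quotient.mkₐ k I) d a = (1 : Pt k A (R ⧸ I)) a := by rw [hd]
    simp only [post_apply, Ideal.Quotient.mkₐ_eq_mk, AlgHom.convOne_apply] at h1
    simp only [Δd, LinearMap.sub_apply, map_sub, hεapp, sub_eq_zero]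
    exact h1
  have hderiv : ∀ a b, Δd (a * b) = ε a * Δd b + Δd a * ε b := fun a b => by
    have h1 := mul_eq_zero_of_sq hI (hΔI a) (hΔI b)
    simp only [Δd, LinearMap.sub_apply, AlgHom.toLinearMap_apply, map_mul, ε] at h1 ⊢
    linear_combination h1
  let ψ : (ℤ → Prop) → (A →ₗ[k] R) := fun s => D.collect fun n => if s n then Δd else 0
  have hψI : ∀ s a, ψ s a ∈ I := fun s a => D.induction_hom (p := fun a => ψ s a ∈ I) (by simp)
    (fun x y hx hy => by simp only [map_add]; exact I.add_mem hx hy)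
    (fun n x hx => by
      simp only [ψ, D.collect_of_isHom _ hx]
      split_ifs
      · exact hΔI x
      · simp) a
  have hval : ∀ s n a, D.IsHom n a → ψ s a = if s n then Δd a else 0 := fun s n a ha => by
    simp only [ψ, D.collect_of_isHom _ ha]
    split_ifs <;> simp
  have hΔ1 : Δd 1 = 0 := by simp [Δd, ε]
  let mk' : (s : ℤ → Prop) → (A →ₐ[k] R) := fun s => AlgHom.ofLinearMap (ε + ψ s)
    (by rw [LinearMap.add_apply, hval s 0 1 D.isHom_one, hΔ1, ite_self, add_zero]; simp [ε])
    (D.mul_of_hom _ fun i j a b ha hb => by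
      have e1 := mul_eq_zero_of_sq hI (hψI s a) (hψI s b)
      simp only [LinearMap.add_apply, hval s _ _ (ha.mul D hb), hval s i a ha, hval s j b hb] at e1 ⊢
      have e2 : ε (a * b) = ε a * ε b := map_mul (1 : Pt k A R).ofConv a b
      have ea : i ≠ 0 → ε a = 0 := fun h => by rw [hεapp, D.counit_of_isHom ha h, map_zero]
      have eb : j ≠ 0 → ε b = 0 := fun h => by rw [hεapp, D.counit_of_isHom hb h, map_zero]
      simp only [hderiv, e2]
      by_cases hi : i = 0 <;> by_cases hj : j = 0
      · subst hi; subst hj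
        simp only [add_zero] at e1 ⊢
        by_cases h0 : s 0 <;> simp only [h0, if_true, if_false] at e1 ⊢ <;> linear_combination -e1
      · subst hi
        simp only [zero_add, eb hj, mul_zero, add_zero] at e1 ⊢
        by_cases h0 : s 0 <;> by_cases h1 : s j <;> simp only [h0, h1, if_true, if_false] at e1 ⊢ <;>
          linear_combination -e1
      · subst hj
        simp only [ea hi, zero_mul, zero_add, add_zero] at e1 ⊢
        by_cases h0 : s 0 <;> by_cases h1 : s i <;> simp only [h0, h1, if_true, if_false] at e1 ⊢ <;>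
          linear_combination -e1
      · simp only [ea hi, eb hj, zero_mul, mul_zero, zero_add, add_zero, ite_self] at e1 ⊢
        linear_combination -e1)
  have hpost : ∀ s, post (Ideal.Quotient.mkₐ k I) (toConv (mk' s)) = 1 := fun s => pt_ext fun a => by
    simp only [post_apply, Ideal.Quotient.mkₐ_eq_mk, AlgHom.convOne_apply]
    change Ideal.Quotient.mk I ((ε + ψ s) a) = _
    rw [LinearMap.add_apply, map_add, Ideal.Quotient.eq_zero_iff_mem.mpr (hψI s a), add_zero, hεapp]
    rfl
  have happ : ∀ (s : ℤ → Prop) n a, D.IsHom n a →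
      (toConv (mk' s) : Pt k A R) a = ε a + if s n then Δd a else 0 := fun s n a ha => by
    rw [← hval s n a ha]; rfl
  refine ⟨toConv (mk' (· < 0)), ?_, toConv (mk' (0 ≤ ·)), ?_, hpost _, hpost _, ?_⟩
  · rw [mem_U_iff, mem_P_iff]
    refine ⟨fun n hn a => ?_, fun a => ?_⟩
    · rw [neg_π, happ _ _ _ (D.isHom_π _ a), if_neg (by omega), add_zero, hεapp, D.counit_π, if_neg (by omega), map_zero]
    · rw [neg_π, neg_zero, happ _ _ _ (D.isHom_π 0 a), if_neg (by omega), add_zero, hεapp, D.counit_π, if_pos rfl]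
  · refine D.mem_P_iff.mpr fun n hn a => ?_
    rw [happ _ _ _ (D.isHom_π n a), if_neg (by omega), add_zero, hεapp, D.counit_π, if_neg (by omega), map_zero]
  · have hsum : ψ (· < 0) + ψ (0 ≤ ·) = Δd := LinearMap.ext fun a =>
      D.induction_hom (p := fun a => (ψ (· < 0) + ψ (0 ≤ ·)) a = Δd a) (by simp)
        (fun x y hx hy => by rw [map_add, map_add, hx, hy]) (fun n x hx => by
          rw [LinearMap.add_apply, hval _ n x hx, hval _ n x hx]
          split_ifs <;> first | omega | simp) a
    apply ofConv_injective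
    apply AlgHom.toLinearMap_injective
    apply toConv_injective
    rw [AlgHom.toLinearMap_convMul]
    change toConv (ε + ψ (· < 0)) * toConv (ε + ψ (0 ≤ ·)) = _
    have hεone : toConv ε = 1 := AlgHom.toLinearMap_convOne
    have hzero : toConv (ψ (· < 0)) * toConv (ψ (0 ≤ ·)) = 0 := by
      apply ofConv_injective
      refine LinearMap.ext fun a => ?_
      rw [(Coalgebra.Repr.arbitrary k a).convMul_apply]
      simpa using Finset.sum_eq_zero fun i _ => mul_eq_zero_of_sq hI (hψI (· < 0) _) (hψI (0 ≤ ·) _)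
    rw [toConv_add, toConv_add, hεone, add_mul, mul_add, mul_add, one_mul, one_mul, mul_one, hzero, add_zero, add_assoc, add_comm (toConv (ψ (0 ≤ ·))),
      ← toConv_add]
    rw [← hεone, ← toConv_add]
    simp only [hsum, Δd]
    rw [add_sub_cancel]

/-- `P` is formally smooth. -/
theorem formallySmooth_P [Algebra.FormallySmooth k A] {J : Ideal A} (hJ : Rep J (fun R _ _ => D.P R)) :
    Algebra.FormallySmooth k (A ⧸ J) := by
  refine Algebra.FormallySmooth.of_comp_surjective fun R _ _ I hI f => ?_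
  obtain ⟨g, hg, e⟩ := D.exists_lift_P hI (toConv (f.comp (Ideal.Quotient.mkₐ k J)))
    ((hJ _ _).mp fun a ha => by simp [Ideal.Quotient.eq_zero_iff_mem.mpr ha])
  exact ⟨Ideal.Quotient.liftₐ J g.ofConv ((hJ _ _).mpr hg), Ideal.Quotient.algHom_ext k
    (congrArg WithConv.ofConv e)⟩

/-- `U` is formally smooth. -/
theorem formallySmooth_U [Algebra.FormallySmooth k A] {J : Ideal A} (hJ : Rep J (fun R _ _ => D.U R)) :
    Algebra.FormallySmooth k (A ⧸ J) := by
  refine Algebra.FormallySmooth.of_comp_surjective fun R _ _ I hI f => ?_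
  obtain ⟨g, hg, e⟩ := D.exists_lift_U hI (toConv (f.comp (Ideal.Quotient.mkₐ k J)))
    ((hJ _ _).mp fun a ha => by simp [Ideal.Quotient.eq_zero_iff_mem.mpr ha])
  exact ⟨Ideal.Quotient.liftₐ J g.ofConv ((hJ _ _).mpr hg), Ideal.Quotient.algHom_ext k
    (congrArg WithConv.ofConv e)⟩

theorem smooth_P [Algebra.Smooth k A] {J : Ideal A} (hJ : Rep J (fun R _ _ => D.P R)) : Algebra.Smooth k (A ⧸ J) where
  formallySmooth := D.formallySmooth_P hJ
  finitePresentation := Algebra.FinitePresentation.quotient (hJ.unique D.rep_P ▸ D.JP_fg)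

theorem smooth_U [Algebra.Smooth k A] {J : Ideal A} (hJ : Rep J (fun R _ _ => D.U R)) : Algebra.Smooth k (A ⧸ J) where
  formallySmooth := D.formallySmooth_U hJ
  finitePresentation := Algebra.FinitePresentation.quotient (hJ.unique D.rep_U ▸ D.JU_fg)

end GmAct

end

end Groth.Agent.Lib.Dyn85
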