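import Groth.Agent.H1.Classical.Fixed
import Mathlib.RingTheory.Jacobson.Ring
import Mathlib.RingTheory.Finiteness.Ideal

/-!
# Compressions of a solvable group normalized by a one-parameter subgroup
-/

universe u v w

open Module Finset

namespace Groth.Agent.Lib.Dyn85.Solv

noncomputable section

variable {K : Type u} [Field K] [IsAlgClosed K]

/-- A Laurent sum vanishing on all units is zero. -/
theorem coeff_eq_zero_of_forall_units (s : Finset ℤ) (c : ℤ → K) (h : ∀ x : Kˣ, ∑ a ∈ s, (x : K) ^ a * c a = 0) :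
    ∀ a ∈ s, c a = 0 := by
  classical
  intro a ha
  obtain ⟨N, hN⟩ : ∃ N : ℤ, ∀ b ∈ s, 0 ≤ b + N := ⟨∑ b ∈ s, |b|, fun b hb => by
    have := Finset.single_le_sum (f := fun b : ℤ => |b|) (fun i _ => abs_nonneg i) hb
    have := neg_abs_le b
    omega⟩
  let P : Polynomial K := ∑ b ∈ s, Polynomial.monomial (b + N).toNat (c b)
  have hP : P = 0 := by
    refine Polynomial.eq_zero_of_infinite_isRoot P (Set.Infinite.mono (s := ({0}ᶜ : Set K)) ?_ ?_)
    · intro x hx
      have hx0 : x ≠ 0 := hx
      have h1 := h (Units.mk0 x hx0)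
      simp only [Units.val_mk0] at h1
      show Polynomial.IsRoot P x
      simp only [P, Polynomial.IsRoot, Polynomial.eval_finsetSum, Polynomial.eval_monomial]
      rw [← mul_zero (x ^ N), ← h1, Finset.mul_sum]
      refine Finset.sum_congr rfl fun b hb => ?_
      rw [← mul_assoc, ← zpow_add₀ hx0, ← zpow_natCast, Int.toNat_of_nonneg (hN b hb), mul_comm, add_comm N b]
    · exact Set.Finite.infinite_compl (Set.finite_singleton 0)
  have h2 := congrArg (fun Q => Polynomial.coeff Q (a + N).toNat) hP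
  simp only [P, Polynomial.finsetSum_coeff, Polynomial.coeff_monomial, Polynomial.coeff_zero] at h2
  rw [Finset.sum_eq_single_of_mem a ha fun b hb hne => if_neg fun he => hne (by
    have := hN a ha
    have := hN b hb
    omega), if_pos rfl] at h2
  exact h2

/-- Distinct exponents are distinguished by some unit. -/
theorem exists_zpow_ne {a b : ℤ} (h : a ≠ b) : ∃ x : Kˣ, (x : K) ^ a ≠ (x : K) ^ b := by
  by_contra hne
  simp only [not_exists, not_not] at hne
  have := coeff_eq_zero_of_forall_units {a, b} (fun c => if c = a then (1 : K) else -1) (fun x => by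
    rw [Finset.sum_pair h, if_pos rfl, if_neg (Ne.symm h), hne x]; ring) a (by simp)
  simp at this

variable {Γ : Type v} [Group Γ] {V : Type w} [AddCommGroup V] [Module K V] [FiniteDimensional K V]

open H1.Classical in
/-- Compressions to upper weight spaces are injective. -/
theorem compress_injective [Group.IsSolvable Γ] (R : Subalgebra K (Γ → K)) [NoZeroDivisors R]
    (σ : Representation K Γ V) (hσ : Kolchin.EndFn R (fun g => σ g)) (hσ' : Kolchin.EndFn R (fun g => σ g⁻¹))
    (s : Finset ℤ) (e : ℤ → End K V) (he : ∀ a ∈ s, ∀ b ∈ s, e a * e b = if a = b then e a else 0)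
    (hsum : ∑ a ∈ s, e a = 1) (T : Kˣ → Γ) (hT : ∀ x, σ (T x) = ∑ a ∈ s, (x : K) ^ a • e a)
    (g : Γ) (b : ℤ) (v : V) (hv : (∑ a ∈ s.filter (b ≤ ·), e a) v = v)
    (hgv : (∑ a ∈ s.filter (b ≤ ·), e a) (σ g v) = 0) : v = 0 := by
  classical
  let Q : ℤ → End K V := fun b => ∑ a ∈ s.filter (b ≤ ·), e a
  have he' : ∀ a ∈ s, ∀ c ∈ s, ∀ x, e a (e c x) = if a = c then e a x else 0 := fun a ha c hc x => by
    rw [← End.mul_apply, he a ha c hc]
    split_ifs <;> rfl
  let 𝒮 : Set (Submodule K V) :=
    {W | (∀ g, ∀ w ∈ W, σ g w ∈ W) ∧ ∀ g b, ∀ v ∈ W, Q b v = v → Q b (σ g v) = 0 → v = 0}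
  obtain ⟨W, ⟨hWs, hWg⟩, hmax⟩ := WellFounded.has_min (r := (· > · : Submodule K V → Submodule K V → Prop))
    (IsWellFounded.wf) 𝒮 ⟨⊥, fun g w hw => by simp [(Submodule.mem_bot K).mp hw],
      fun g b v hv _ _ => (Submodule.mem_bot K).mp hv⟩
  have hWe : ∀ a ∈ s, ∀ w ∈ W, e a w ∈ W := by
    intro a ha w hw
    by_contra hne
    obtain ⟨l, hl, hlW⟩ := Submodule.exists_dual_map_eq_bot_of_notMem hne inferInstance
    refine hl (coeff_eq_zero_of_forall_units s (fun c => l (e c w)) (fun x => ?_) a ha)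
    have hx : l (σ (T x) w) = 0 := (Submodule.mem_bot K).mp (hlW ▸ ⟨_, hWs (T x) w hw, rfl⟩)
    simpa [hT] using hx
  by_cases htop : W = ⊤
  · exact hWg g b v (htop ▸ Submodule.mem_top) hv hgv
  exfalso
  have : Nontrivial (V ⧸ W) := Submodule.Quotient.nontrivial_iff.mpr htop
  let σq : Representation K Γ (V ⧸ W) :=
    { toFun := fun g => W.mapQ W (σ g) (hWs g)
      map_one' := Submodule.linearMap_qext _ (LinearMap.ext fun x => by simp)
      map_mul' := fun a c => Submodule.linearMap_qext _ (LinearMap.ext fun x => by simp) }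
  have hq : ∀ F : Γ → End K V, ∀ hF : ∀ g, W ≤ W.comap (F g), Kolchin.EndFn R F →
      Kolchin.EndFn R (fun g => W.mapQ W (F g) (hF g)) := by
    intro F hF h x l
    obtain ⟨x, rfl⟩ := W.mkQ_surjective x
    exact h x (l ∘ₗ W.mkQ)
  obtain ⟨vbar, hvbar, hχ⟩ := Fixed.exists_eigvec R σq (hq _ (fun g => hWs g) hσ)
    (hq _ (fun g => hWs g⁻¹) hσ')
  obtain ⟨v0, rfl⟩ := W.mkQ_surjective vbar
  have hv0 : v0 ∉ W := fun h => hvbar ((Submodule.Quotient.mk_eq_zero W).mpr h)
  obtain ⟨a, ha, hau⟩ : ∃ a ∈ s, e a v0 ∉ W := by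
    by_contra hne
    simp only [not_exists, not_and, not_not] at hne
    refine hv0 ?_
    rw [← End.one_apply (R := K) v0, ← hsum, LinearMap.sum_apply]
    exact W.sum_mem hne
  have huniq : ∀ c ∈ s, c ≠ a → e c v0 ∈ W := by
    intro c hc hca
    by_contra hcu
    obtain ⟨x, hx⟩ := exists_zpow_ne (K := K) hca
    obtain ⟨m, hm⟩ := hχ (T x)
    have hmem : σ (T x) v0 - m • v0 ∈ W := by
      rw [← Submodule.Quotient.eq]
      exact hm
    have key : ∀ d ∈ s, e d v0 ∉ W → (x : K) ^ d = m := by
      intro d hd hdW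
      have h1 := hWe d hd _ hmem
      rw [map_sub, map_smul, hT, LinearMap.sum_apply, map_sum] at h1
      simp only [LinearMap.smul_apply, map_smul] at h1
      rw [Finset.sum_eq_single_of_mem d hd fun f hf hfd => by rw [he' d hd f hf, if_neg (Ne.symm hfd), smul_zero],
        he' d hd d hd, if_pos rfl, ← sub_smul] at h1
      by_contra hne
      exact hdW ((W.smul_mem_iff (sub_ne_zero.mpr hne)).mp h1)
    exact hx ((key c hc hcu).trans (key a ha hau).symm)
  let u := e a v0
  have hu : W.mkQ u = W.mkQ v0 := by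
    have hd : v0 - u ∈ W := by
      conv => arg 2; arg 1; rw [← End.one_apply (R := K) v0, ← hsum, LinearMap.sum_apply, ← Finset.sum_erase_add _ _ ha]
      simp only [u, add_sub_cancel_right]
      exact W.sum_mem fun c hc => huniq c (Finset.mem_of_mem_erase hc) (Finset.ne_of_mem_erase hc)
    exact ((Submodule.Quotient.eq W).mpr hd).symm
  let W' := W ⊔ K ∙ u
  have hmem' : ∀ g, ∃ m : K, m ≠ 0 ∧ σ g u - m • u ∈ W := by
    intro g
    obtain ⟨m, hm⟩ := hχ g
    rw [← hu] at hm hvbar
    refine ⟨m, fun h0 => ?_, (Submodule.Quotient.eq W).mp hm⟩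
    rw [h0, zero_smul] at hm
    apply hvbar
    have h3 := congrArg (σq g⁻¹) hm
    rw [← End.mul_apply, ← map_mul, inv_mul_cancel, map_one, End.one_apply, map_zero] at h3
    exact h3
  have hW' : W' ∈ 𝒮 := by
    refine ⟨fun g w hw => ?_, fun g b w hw hQ hQg => ?_⟩
    · obtain ⟨y, hy, z, hz, rfl⟩ := Submodule.mem_sup.mp hw
      obtain ⟨c, rfl⟩ := Submodule.mem_span_singleton.mp hz
      obtain ⟨m, -, hm⟩ := hmem' g
      rw [map_add, map_smul, show σ g u = (σ g u - m • u) + m • u from (sub_add_cancel _ _).symm, smul_add, ← add_assoc]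
      exact Submodule.add_mem_sup (W.add_mem (hWs g y hy) (W.smul_mem c hm))
        (Submodule.smul_mem _ c (Submodule.smul_mem _ m (Submodule.mem_span_singleton_self u)))
    · obtain ⟨y, hy, z, hz, rfl⟩ := Submodule.mem_sup.mp hw
      obtain ⟨c, rfl⟩ := Submodule.mem_span_singleton.mp hz
      have hQW : ∀ x ∈ W, Q b x ∈ W := fun x hx => by
        simp only [Q, LinearMap.sum_apply]
        exact W.sum_mem fun d hd => hWe d (Finset.mem_filter.mp hd).1 x hx
      have hQu : Q b u = if b ≤ a then u else 0 := by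
        simp only [Q, u, LinearMap.sum_apply]
        rw [Finset.sum_congr rfl fun d hd => he' d (Finset.mem_filter.mp hd).1 a ha v0, Finset.sum_ite_eq']
        simp [ha]
      by_cases hba : b ≤ a
      · rw [if_pos hba] at hQu
        have hc : c = 0 := by
          obtain ⟨m, hm0, hm⟩ := hmem' g
          by_contra hc0
          refine hau ((W.smul_mem_iff (mul_ne_zero hc0 hm0)).mp ?_)
          have h1 : Q b (σ g (y + c • u)) = Q b (σ g y) + c • Q b (σ g u - m • u) + (c * m) • u := by
            simp only [map_add, map_smul, map_sub, hQu, smul_sub, smul_smul]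
            abel
          rw [hQg] at h1
          rw [show (c * m) • e a v0 = -(Q b (σ g y) + c • Q b (σ g u - m • u)) from eq_neg_of_add_eq_zero_right h1.symm]
          exact W.neg_mem (W.add_mem (hQW _ (hWs g y hy)) (W.smul_mem c (hQW _ hm)))
        rw [hc, zero_smul, add_zero] at hQ hQg ⊢
        exact hWg g b y hy hQ hQg
      · rw [if_neg hba] at hQu
        have hmem2 : y + c • u ∈ W := by
          rw [← hQ, map_add, map_smul, hQu, smul_zero, add_zero]
          exact hQW y hy
        exact hWg g b _ hmem2 hQ hQg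
  exact hmax W' hW' (lt_of_le_of_ne le_sup_left fun h =>
    hau (h ▸ Submodule.mem_sup_right (Submodule.mem_span_singleton_self u)))

/-- Points of a finitely generated domain separate its elements. -/
theorem exists_algHom_ne_zero {B : Type*} [CommRing B] [IsDomain B] [Algebra K B] [Algebra.FiniteType K B]
    {a : B} (ha : a ≠ 0) : ∃ χ : B →ₐ[K] K, χ a ≠ 0 := by
  by_contra hne
  simp only [not_exists, not_not] at hne
  have : IsJacobsonRing B := isJacobsonRing_of_finiteType (A := K)
  refine ha ((Submodule.mem_bot B).mp ?_)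
  rw [← IsJacobsonRing.out' (⊥ : Ideal B) ((Ideal.isRadical_bot_iff).mpr inferInstance), Ideal.jacobson, Ideal.mem_sInf]
  rintro m ⟨-, hm⟩
  let := Ideal.Quotient.field m
  have : Module.Finite K (B ⧸ m) := finite_of_finite_type_of_isJacobsonRing K _
  have : Algebra.IsIntegral K (B ⧸ m) := Algebra.IsIntegral.of_finite K _
  let f := AlgEquiv.ofBijective (Algebra.ofId K (B ⧸ m))
    (IsAlgClosed.algebraMap_bijective_of_isIntegral (k := K) (K := B ⧸ m))
  have h0 := hne (f.symm.toAlgHom.comp (Ideal.Quotient.mkₐ K m))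
  simpa [Ideal.Quotient.eq_zero_iff_mem] using h0

end

end Groth.Agent.Lib.Dyn85.Solv
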